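import Mathlib
import Cfsg.Agent.BlockThms.Normal
import Cfsg.Agent.BlockThms.NormalCor
import Cfsg.Agent.BlockChar.Support
import Cfsg.Agent.Char.Integral
import Cfsg.Agent.Char.Linear
import Cfsg.Agent.ProjExt.Ratio
import Cfsg.Agent.Fusion.Residual
import Cfsg.Agent.Coprime.Basic
import Cfsg.Agent.Core.PCore

/-!
# Kazarin: classes of prime power size

If a `q`-element has `p`-power class (`q ≠ p`) and `O_p(G) = 1` it lies in `O_q(G)`.
-/

namespace Cfsg.Agent.Kazarin

open Subgroup
open Cfsg.Agent Cfsg.Agent.Blocks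

universe u

variable {G : Type u} [Group G]

theorem index_centralizer_subgroup_dvd [Finite G] (N : Subgroup G) [N.Normal] (y : N) :
    (centralizer ({y} : Set N)).index ∣ (centralizer ({(y : G)} : Set G)).index := by
  have h : centralizer ({y} : Set N) = (centralizer ({(y : G)} : Set G)).subgroupOf N := by
    ext z
    rw [mem_subgroupOf, mem_centralizer_singleton_iff, mem_centralizer_singleton_iff,
      ← Subtype.coe_inj]
    rfl
  rw [h]
  change (centralizer ({(y : G)} : Set G)).relIndex N ∣ _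
  set C := centralizer ({(y : G)} : Set G)
  have h1 : (C ⊓ N).relIndex C = N.relIndex (C ⊔ N) := by
    rw [inf_relIndex_left, relIndex_sup_right]
  have h2 := (relIndex_mul_relIndex (C ⊓ N) C (C ⊔ N) inf_le_left le_sup_left).trans
    (relIndex_mul_relIndex (C ⊓ N) N (C ⊔ N) inf_le_right le_sup_right).symm
  rw [h1, inf_relIndex_right, mul_comm] at h2
  rw [← Nat.eq_of_mul_eq_mul_right (Nat.pos_of_ne_zero FiniteIndex.index_ne_zero) h2]
  exact relIndex_dvd_index_of_le le_sup_left

theorem pCore_subgroup_eq_bot (p : ℕ) (N : Subgroup G) [N.Normal] (h : Cfsg.pCore p G = ⊥) :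
    Cfsg.pCore p N = ⊥ := by
  rw [← map_eq_bot_iff_of_injective _ N.subtype_injective, Core.map_pCore_normal, h, bot_inf_eq]

variable [Finite G] {p q : ℕ} [hp : Fact p.Prime] [hq : Fact q.Prime]

/-- The conjugates of `y` lie in `P ⊔ ⟨y⟩` when the class of `y` has `p`-power size and `P` is a
Sylow `p`-subgroup. -/
theorem conj_mem_sup {y : G} {a : ℕ} (hcl : (centralizer ({y} : Set G)).index = p ^ a)
    {P : Subgroup G} (hP : Nat.card P = p ^ (Nat.card G).factorization p) (g : G) :
    g * y * g⁻¹ ∈ P ⊔ zpowers y := by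
  set C := centralizer ({y} : Set G) with hC
  let f : P ⧸ C.subgroupOf P → G ⧸ C := fun x => Quotient.liftOn' x
    (fun z : P => ((z : G) : G ⧸ C)) fun a b h => by
      rw [QuotientGroup.leftRel_apply, mem_subgroupOf] at h
      exact QuotientGroup.eq.2 (by simpa using h)
  have hf : Function.Injective f := by
    intro x y
    refine Quotient.inductionOn₂' x y fun a b h => ?_
    apply Quotient.sound'
    rw [QuotientGroup.leftRel_apply, mem_subgroupOf]
    simpa using QuotientGroup.eq.1 h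
  have hcard : Nat.card (P ⧸ C.subgroupOf P) = Nat.card (G ⧸ C) := by
    refine le_antisymm (Nat.card_le_card_of_injective f hf) ?_
    rw [← index_eq_card, ← index_eq_card, hcl]
    obtain ⟨i, -, hi⟩ : ∃ i ≤ (Nat.card G).factorization p, Nat.card (C.subgroupOf P) = p ^ i :=
      (Nat.dvd_prime_pow hp.out).1 (hP ▸ card_subgroup_dvd_card _)
    have hmul := card_mul_index (C.subgroupOf P)
    rw [hi, hP] at hmul
    have hiC : p ^ i ∣ Nat.card C := by
      rw [← hi]
      exact dvd_trans (dvd_of_eq <| by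
        rw [← card_map_of_injective (K := C.subgroupOf P) P.subtype_injective,
          subgroupOf_map_subtype]) (Subgroup.card_dvd_of_le (inf_le_left : C ⊓ P ≤ C))
    have hle : i + a ≤ (Nat.card G).factorization p := by
      refine (hp.out.pow_dvd_iff_le_factorization Nat.card_pos.ne').1 ?_
      rw [pow_add, ← card_mul_index C, hcl]
      exact mul_dvd_mul_right hiC _
    have hidx : (C.subgroupOf P).index = p ^ ((Nat.card G).factorization p - i) := by
      apply Nat.eq_of_mul_eq_mul_left (pow_pos hp.out.pos i)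
      rw [hmul, ← pow_add, Nat.add_sub_cancel' (by omega)]
    rw [hidx]
    exact Nat.pow_le_pow_right hp.out.pos (by omega)
  obtain ⟨x, hx⟩ := ((Nat.bijective_iff_injective_and_card f).2 ⟨hf, hcard⟩).2 (g : G ⧸ C)
  obtain ⟨z, rfl⟩ := QuotientGroup.mk_surjective x
  have hz : (z : G)⁻¹ * g ∈ C := QuotientGroup.eq.1 hx
  rw [hC, mem_centralizer_singleton_iff] at hz
  have : g * y * g⁻¹ = (z : G) * y * (z : G)⁻¹ := by
    calc g * y * g⁻¹ = (z : G) * (((z : G)⁻¹ * g) * y) * g⁻¹ := by group
      _ = _ := by rw [hz]; group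
  rw [this]
  exact (P ⊔ zpowers y).mul_mem ((P ⊔ zpowers y).mul_mem (mem_sup_left z.2)
    (mem_sup_right (mem_zpowers y))) ((P ⊔ zpowers y).inv_mem (mem_sup_left z.2))

/-- The coprime case: some Sylow `p`-subgroup is normalised by `y`. -/
theorem mem_pCore_of_normalizes {y : G} (hO : Cfsg.pCore p G = ⊥) {a k : ℕ}
    (hy : orderOf y = q ^ k) (hcl : (centralizer ({y} : Set G)).index = p ^ a)
    {P : Subgroup G} (hP : Nat.card P = p ^ (Nat.card G).factorization p)
    (hyP : zpowers y ≤ normalizer (P : Set G)) : y ∈ Cfsg.pCore q G := by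
  set L := P ⊔ zpowers y with hL
  set E := normalClosure ({y} : Set G) with hE
  have hEL : E ≤ L := by
    rw [hE, normalClosure, closure_le]
    intro x hx
    obtain ⟨s, hs, hsx⟩ := Group.mem_conjugatesOfSet_iff.1 hx
    rw [Set.mem_singleton_iff] at hs
    subst hs
    obtain ⟨g, rfl⟩ := isConj_iff.1 hsx
    exact conj_mem_sup hcl hP g
  have hLN : L ≤ normalizer (P : Set G) := sup_le le_normalizer hyP
  -- `E ⊓ P` is a normal `p`-subgroup of `E`
  haveI : ((P ⊓ E).subgroupOf E).Normal := by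
    refine ⟨fun x hx g => ?_⟩
    rw [mem_subgroupOf] at hx ⊢
    exact ⟨(mem_normalizer_iff.1 (hLN (hEL g.2)) _).1 hx.1, (g * x * g⁻¹).2⟩
  have hPp : IsPGroup p P := IsPGroup.of_card hP
  have hPE : P ⊓ E = ⊥ := by
    have h := Core.le_pCore (p := p) (G := E) (N := (P ⊓ E).subgroupOf E)
      (hPp.to_le inf_le_left).comap_subtype
    rw [pCore_subgroup_eq_bot p E hO, le_bot_iff, subgroupOf_eq_bot, disjoint_iff,
      inf_assoc, inf_idem] at h
    exact h
  have hEq : IsPGroup q E := by
    intro e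
    refine ⟨k, ?_⟩
    obtain ⟨n, hn, z, hz, hnz⟩ := (Coprime.mem_sup_of_le_normalizer hyP).1 (hEL e.2)
    haveI : (P.subgroupOf (normalizer (P : Set G))).Normal := normal_in_normalizer
    set π := QuotientGroup.mk' (P.subgroupOf (normalizer (P : Set G))) with hπ
    have h1 : π ⟨e, hLN (hEL e.2)⟩ = π ⟨z, hyP hz⟩ := by
      have : (⟨(e : G), hLN (hEL e.2)⟩ : normalizer (P : Set G)) =
          ⟨n, le_normalizer hn⟩ * ⟨z, hyP hz⟩ := Subtype.ext hnz.symm
      rw [this, map_mul, show π ⟨n, le_normalizer hn⟩ = 1 from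
        (QuotientGroup.eq_one_iff _).2 hn, one_mul]
    have h2 : z ^ q ^ k = 1 := by
      obtain ⟨i, rfl⟩ := mem_zpowers_iff.1 hz
      rw [← hy, ← zpow_natCast, zpow_comm, zpow_natCast, pow_orderOf_eq_one, one_zpow]
    have h3 : π (⟨(e : G), hLN (hEL e.2)⟩ ^ q ^ k) = 1 := by
      rw [map_pow, h1, ← map_pow, show (⟨z, hyP hz⟩ : normalizer (P : Set G)) ^ q ^ k = 1 from
        Subtype.ext (by simpa using h2), map_one]
    have h4 : (e : G) ^ q ^ k ∈ P ⊓ E := by
      refine ⟨?_, E.pow_mem e.2 _⟩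
      have := (QuotientGroup.eq_one_iff _).1 h3
      simpa [mem_subgroupOf] using this
    rw [hPE, mem_bot] at h4
    exact Subtype.ext (by simpa using h4)
  haveI : E.Normal := normalClosure_normal
  exact Core.le_pCore hEq (subset_normalClosure rfl)

/-- A `p`-element with `p`-power class is trivial when `O_p(G) = 1`. -/
theorem eq_one_of_pElement {y : G} (hO : Cfsg.pCore p G = ⊥) {a k : ℕ}
    (hy : orderOf y = p ^ k) (hcl : (centralizer ({y} : Set G)).index = p ^ a) : y = 1 := by
  have hyp : IsPGroup p (zpowers y) := IsPGroup.of_card (by rw [Nat.card_zpowers, hy])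
  obtain ⟨S, hS⟩ := hyp.exists_le_sylow
  have h := mem_pCore_of_normalizes (q := p) hO hy hcl (P := (S : Subgroup G))
    S.card_eq_multiplicity (hS.trans le_normalizer)
  rwa [hO, mem_bot] at h

/-- **Kazarin**: a `q`-element whose class has `p`-power size lies in `O_q(G)` if `O_p(G) = 1`. -/
theorem mem_pCore (hpq : p ≠ q) (y : G) (hO : Cfsg.pCore p G = ⊥) {a k : ℕ}
    (hy : orderOf y = q ^ k) (hcl : (centralizer ({y} : Set G)).index = p ^ a) :
    y ∈ Cfsg.pCore q G := by
  classical
  induction hn : Nat.card G using Nat.strong_induction_on generalizing G a with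
  | _ n IH =>
  subst hn
  have hnormal : ∀ N : Subgroup G, N.Normal → N ≠ ⊤ → y ∈ N → y ∈ Cfsg.pCore q G := by
    intro N hN htop hyN
    obtain ⟨b, -, hb⟩ := (Nat.dvd_prime_pow hp.out).1
      (hcl ▸ index_centralizer_subgroup_dvd N ⟨y, hyN⟩)
    have h := IH (Nat.card N) (Core.card_lt_of_ne_top htop) (⟨y, hyN⟩ : N)
      (pCore_subgroup_eq_bot p N hO) (by rwa [Subgroup.orderOf_mk]) hb rfl
    have h2 := mem_map_of_mem N.subtype h
    rw [Core.map_pCore_normal] at h2
    exact h2.1
  set N := Cfsg.pResidual q G with hNdef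
  haveI := Fusion.pResidual_characteristic (p := q) (G := G)
  haveI hNn : N.Normal := normal_of_characteristic _
  obtain ⟨e, he⟩ := Fusion.index_pResidual_eq_pow (p := q) (G := G)
  by_cases hqN : q ∣ Nat.card N
  swap
  · -- an invariant Sylow subgroup of `N`
    have hAN : zpowers y ≤ normalizer (N : Set G) := le_normalizer_of_normal
    have hcop : (Nat.card (zpowers y)).Coprime (Nat.card N) := by
      rw [Nat.card_zpowers, hy]
      exact (hq.out.coprime_iff_not_dvd.2 hqN).pow_left k
    obtain ⟨P, hP⟩ := Coprime.exists_invariant_sylow hAN hcop (Or.inl inferInstance) p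
    refine mem_pCore_of_normalizes hO hy hcl (P := (P : Subgroup N).map N.subtype) ?_ hP
    rw [card_map_of_injective N.subtype_injective, P.card_eq_multiplicity,
      ← card_mul_index N, he, Nat.factorization_mul Nat.card_pos.ne'
        (pow_ne_zero _ hq.out.ne_zero), Finsupp.add_apply, hq.out.factorization_pow,
      Finsupp.single_eq_of_ne hpq]
    simp
  -- a nontrivial member of the principal `q`-block of `N` of degree prime to `p`
  have := Fintype.ofFinite G
  have := Fintype.ofFinite N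
  obtain ⟨M, hM⟩ := Blocks.exists_isPModular q hq.out
  obtain ⟨u, hu⟩ := exists_prime_orderOf_dvd_card' q hqN
  obtain ⟨θ, hθB, hθ1, d, hd, hpd⟩ : ∃ θ : Cfsg.IrrCharacter N,
      θ ∈ Cfsg.principalBlock M N ∧ θ ≠ triv N ∧ ∃ d : ℕ, (θ : N → ℂ) 1 = d ∧ ¬ p ∣ d := by
    by_contra hcon
    push Not at hcon
    have htB : triv N ∈ Cfsg.principalBlock M N := mem_blockOf_self hM (triv N)
    have hsum := BlockChar.sum_block_degree_mul_eq_zero hM
      (B := Cfsg.principalBlock M N) (isPBlock_blockOf (triv N))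
      (y := u) (fun h => h (hu ▸ dvd_rfl))
    rw [← Finset.add_sum_erase _ _ (Finset.mem_univ (triv N)), if_pos htB] at hsum
    have hp0 : (p : ℂ) ≠ 0 := Nat.cast_ne_zero.2 hp.out.ne_zero
    have hint : IsIntegral ℤ ((1 : ℂ) / p) := by
      have e : (1 : ℂ) / p = -∑ χ ∈ Finset.univ.erase (triv N),
          (if χ ∈ Cfsg.principalBlock M N then (χ : N → ℂ) 1 * (χ : N → ℂ) u else 0) / p := by
        rw [← Finset.sum_div, ← neg_div, eq_neg_of_add_eq_zero_right hsum, neg_neg]
        simp [triv]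
      rw [e]
      refine (IsIntegral.sum _ fun χ hχ => ?_).neg
      split_ifs with hmem
      · obtain ⟨n, -, hn⟩ := Char.IsIrr.degree χ.2
        obtain ⟨c, rfl⟩ := hcon χ hmem (Finset.ne_of_mem_erase hχ) n hn
        rw [hn, Nat.cast_mul, mul_assoc, mul_div_assoc, ← mul_div_assoc,
          mul_div_cancel_left₀ _ hp0]
        exact (isIntegral_algebraMap (R := ℤ) (x := (c : ℤ))).mul
          (Char.IsChar.isIntegral (Char.IsIrr.isCharacter χ.2) u) |> fun h => by simpa using h
      · simp [isIntegral_zero]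
    exact hp.out.one_lt.ne' (Nat.dvd_one.1
      (Char.nat_dvd_of_isIntegral hp.out.ne_zero (by simpa using hint)))
  -- a character of `G` over it
  have hne : Cfsg.indFun N (θ : N → ℂ) ≠ 0 := fun h => by
    have h1 := congrFun h 1
    rw [Char.indFun_apply_one, Pi.zero_apply, mul_eq_zero] at h1
    exact h1.elim (fun h2 => Subgroup.index_ne_zero_of_finite (Nat.cast_eq_zero.1 h2))
      (Char.IsIrr.one_ne_zero θ.2)
  obtain ⟨χ, hχ⟩ := Char.IsChar.exists_constituent
    (Char.isCharacter_indFun N (Char.IsIrr.isCharacter θ.2)) hne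
  have hχθ : Cfsg.classInner (fun n : N => (χ : G → ℂ) n) (θ : N → ℂ) ≠ 0 := by
    rw [Char.classInner_indFun_left N _ (Char.isClassFunction_of_isIrr χ.2)] at hχ
    rw [← Char.classInner_conj_symm, map_ne_zero]
    exact hχ
  have hsame : Cfsg.SameBlock M (χ : G → ℂ) ((triv G : Cfsg.IrrCharacter G) : G → ℂ) :=
    BlockThms.sameBlock_of_common hM ⟨e, he⟩ (isPBlock_blockOf (triv N)) hθB
      (mem_blockOf_self hM (triv N)) hχθ
      ((BlockThms.triv_constituent_iff (triv G).2).2 fun n _ => rfl)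
  obtain ⟨c, -, hc⟩ := Char.IsIrr.degree χ.2
  obtain ⟨j, hj, hjdvd⟩ := ProjExt.exists_ratio_dvd_index χ.2 θ.2 hχθ
  have hpc : ¬ p ∣ c := by
    rw [hc, hd] at hj
    rw [show c = j * d by exact_mod_cast hj]
    intro hdvd
    rcases hp.out.dvd_mul.1 hdvd with h | h
    · exact hpq ((Nat.prime_dvd_prime_iff_eq hp.out hq.out).1
        (hp.out.dvd_of_dvd_pow (he ▸ h.trans hjdvd)))
    · exact hpd h
  -- `y` acts as a scalar
  have hy0 : (χ : G → ℂ) y ≠ 0 := fun h0 => by
    have h1 := hsame y
    simp only [Cfsg.centralChar, h0, hcl, mul_zero, zero_div, zero_sub, triv, mul_one, div_one]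
      at h1
    have h2 := memLocalIdeal_neg h1
    rw [neg_neg, Nat.cast_pow, ← Nat.cast_pow, memLocalIdeal_natCast_iff hM] at h2
    exact hpq.symm ((Nat.prime_dvd_prime_iff_eq hq.out hp.out).1 (hq.out.dvd_of_dvd_pow h2))
  have hnorm := (Char.IsIrr.zero_or_norm_eq χ.2 y hc
    (by rw [hcl]; exact ((hp.out.coprime_iff_not_dvd.2 hpc).pow_left a).symm)).resolve_left hy0
  obtain ⟨m, ρ, hρ, hρχ⟩ := χ.2
  have hm : Module.finrank ℂ (Fin m → ℂ) = c := by
    have h := ρ.char_one
    rw [hρχ, hc] at h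
    exact_mod_cast h.symm
  obtain ⟨Z, hZn, hZmem⟩ := Char.exists_normal_of_scalar ρ
  have hyZ : y ∈ Z := (hZmem y).2 ((Char.norm_character_eq_iff ρ y).1 (by rw [hρχ, hm]; exact hnorm))
  by_cases hZ : Z ≠ ⊤
  · exact hnormal Z hZn hZ hyZ
  push Not at hZ
  -- `χ` is linear
  set D := ρ.toHomUnits.ker with hD
  have hGD : commutator G ≤ D := by
    rw [commutator_eq_closure, Subgroup.closure_le]
    rintro _ ⟨g, h, rfl⟩
    obtain ⟨ω, hω⟩ := (hZmem g).1 (hZ ▸ mem_top g)
    have hcc : ρ g * ρ h = ρ h * ρ g := by rw [hω]; ext v; simp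
    rw [SetLike.mem_coe, hD, MonoidHom.mem_ker, commutatorElement_def]
    apply Units.ext
    rw [MonoidHom.coe_toHomUnits, map_mul, map_mul, map_mul, hcc, mul_assoc (ρ h),
      ← map_mul ρ g, mul_inv_cancel, map_one, mul_one, ← map_mul, mul_inv_cancel, map_one]
    rfl
  set E := D ⊔ zpowers y with hE
  haveI hEn : E.Normal := by
    refine ⟨fun x hx g => ?_⟩
    have h : g * x * g⁻¹ * x⁻¹ ∈ E :=
      mem_sup_left (hGD (commutator_mem_commutator (mem_top g) (mem_top x)))
    simpa [mul_assoc] using E.mul_mem h hx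
  by_cases hEtop : E ≠ ⊤
  · exact hnormal E hEn hEtop (mem_sup_right (mem_zpowers y))
  push Not at hEtop
  exfalso
  have hND : N ≤ D := by
    refine Fusion.pResidual_le_of_isPGroup_quotient (p := q) D fun x => ⟨k, ?_⟩
    obtain ⟨g, rfl⟩ := QuotientGroup.mk_surjective x
    obtain ⟨d', hd', z, hz, rfl⟩ :=
      (Coprime.mem_sup_of_le_normalizer (N := D) le_normalizer_of_normal).1
        (show g ∈ D ⊔ zpowers y from (hE.symm.trans hEtop) ▸ mem_top g)
    obtain ⟨i, rfl⟩ := mem_zpowers_iff.1 hz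
    rw [QuotientGroup.mk_mul, (QuotientGroup.eq_one_iff d').2 hd', one_mul,
      ← QuotientGroup.mk_pow, ← hy, ← zpow_natCast, zpow_comm, zpow_natCast, pow_orderOf_eq_one,
      one_zpow, QuotientGroup.mk_one]
  have hres : ∀ m ∈ N, (χ : G → ℂ) m = (χ : G → ℂ) 1 := fun m hm => by
    have h : ρ m = 1 := congrArg Units.val (MonoidHom.mem_ker.1 (hND hm))
    rw [← hρχ]
    show LinearMap.trace ℂ _ (ρ m) = LinearMap.trace ℂ _ (ρ 1)
    rw [h, ρ.map_one]
  apply hθ1
  by_contra hne1
  apply hχθ
  have hfun : (fun n : N => (χ : G → ℂ) n) = fun _ => (c : ℂ) * 1 := by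
    funext n
    rw [hres n n.2, hc, mul_one]
  rw [hfun]
  have h0 := Char.classInner_irr_ne (triv N).2 θ.2 fun h => hne1 (Subtype.ext h.symm)
  rw [Cfsg.classInner] at h0 ⊢
  simp only [triv] at h0
  simp only [mul_assoc, ← Finset.mul_sum, mul_one, one_mul] at h0 ⊢
  rw [mul_left_comm, h0, mul_zero]

omit hq in
/-- With `O_p(G) = 1`, conjugates of an element with `p`-power class commute. -/
theorem commute_conj {x : G} (hO : Cfsg.pCore p G = ⊥) {a : ℕ}
    (hcl : (centralizer ({x} : Set G)).index = p ^ a) (g h : G) :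
    Commute (g * x * g⁻¹) (h * x * h⁻¹) := by
  classical
  -- the primary parts of `x`
  set T : Set G := {y | y ∈ zpowers x ∧ ∃ r k : ℕ, r.Prime ∧ orderOf y = r ^ k} with hT
  have hxT : x ∈ closure T := by
    by_contra hx
    set Z := (closure T).subgroupOf (zpowers x) with hZ
    have hne : Z.index ≠ 1 := fun h1 => hx (by
      rw [index_eq_one] at h1
      exact mem_subgroupOf.1 (h1 ▸ mem_top (⟨x, mem_zpowers x⟩ : zpowers x)))
    haveI : Fact (Nat.minFac Z.index).Prime := ⟨Nat.minFac_prime hne⟩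
    obtain ⟨S⟩ := (inferInstance : Nonempty (Sylow (Nat.minFac Z.index) (zpowers x)))
    have hSZ : (S : Subgroup (zpowers x)) ≤ Z := fun s hs => by
      obtain ⟨k, hk⟩ := IsPGroup.iff_orderOf.1 S.2 ⟨s, hs⟩
      rw [Subgroup.orderOf_mk] at hk
      rw [hZ, mem_subgroupOf]
      exact subset_closure ⟨s.2, _, k, Fact.out, by rw [orderOf_coe, hk]⟩
    exact S.not_dvd_index ((Nat.minFac_dvd _).trans (index_dvd_of_le hSZ))
  have hidx : ∀ y ∈ zpowers x, ∀ c : G, ∃ b, (centralizer ({c * y * c⁻¹} : Set G)).index = p ^ b := by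
    intro y hy c
    have hle : centralizer ({x} : Set G) ≤ centralizer ({y} : Set G) := by
      intro z hz
      rw [mem_centralizer_singleton_iff] at hz ⊢
      obtain ⟨i, rfl⟩ := mem_zpowers_iff.1 hy
      exact (Commute.zpow_right hz i)
    obtain ⟨b, -, hb⟩ := (Nat.dvd_prime_pow hp.out).1 (hcl ▸ index_dvd_of_le hle)
    refine ⟨b, hb ▸ ?_⟩
    have hmap : (centralizer ({y} : Set G)).map (MulAut.conj c).toMonoidHom =
        centralizer ({c * y * c⁻¹} : Set G) := by
      ext z
      rw [mem_map_equiv, MulAut.conj_symm_apply, mem_centralizer_singleton_iff,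
        mem_centralizer_singleton_iff]
      constructor
      · intro e
        calc z * (c * y * c⁻¹) = c * (c⁻¹ * z * c * y) * c⁻¹ := by group
          _ = c * y * c⁻¹ * z := by rw [e]; group
      · intro e
        calc c⁻¹ * z * c * y = c⁻¹ * (z * (c * y * c⁻¹)) * c := by group
          _ = y * (c⁻¹ * z * c) := by rw [e]; group
    rw [← hmap]; exact index_map_equiv _ (MulAut.conj c)
  have hloc : ∀ y ∈ T, y = 1 ∨ ∃ r k : ℕ, r.Prime ∧ r ≠ p ∧ orderOf y = r ^ k ∧
      ∀ c : G, c * y * c⁻¹ ∈ Cfsg.pCore r G := by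
    rintro y ⟨hy, r, k, hr, ho⟩
    obtain ⟨b, hb⟩ := hidx y hy 1
    rw [one_mul, inv_one, mul_one] at hb
    rcases eq_or_ne r p with rfl | hrp
    · exact Or.inl (eq_one_of_pElement hO ho hb)
    · haveI : Fact r.Prime := ⟨hr⟩
      exact Or.inr ⟨r, k, hr, hrp, ho, fun c =>
        (inferInstance : (Cfsg.pCore r G).Normal).conj_mem _ (mem_pCore hrp.symm y hO ho hb) c⟩
  have key : ∀ y ∈ T, ∀ z ∈ T, ∀ c d : G, Commute (c * y * c⁻¹) (d * z * d⁻¹) := by
    intro y hy z hz c d
    rcases hloc y hy with rfl | ⟨r, k, hr, hrp, -, hyc⟩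
    · simp
    rcases hloc z hz with rfl | ⟨s, l, hs, -, -, hzd⟩
    · simp
    haveI : Fact r.Prime := ⟨hr⟩
    haveI : Fact s.Prime := ⟨hs⟩
    rcases eq_or_ne r s with rfl | hrs
    · -- the centralizer of a conjugate contains a Sylow `r`-subgroup
      obtain ⟨b, hb⟩ := hidx y hy.1 c
      set C := centralizer ({c * y * c⁻¹} : Set G) with hC
      obtain ⟨R⟩ := (inferInstance : Nonempty (Sylow r C))
      obtain ⟨R', hR'⟩ : ∃ R' : Sylow r G, (R' : Subgroup G) = (R : Subgroup C).map C.subtype := by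
        refine ⟨Sylow.ofCard _ ?_, Sylow.coe_ofCard _ _⟩
        rw [card_map_of_injective C.subtype_injective, R.card_eq_multiplicity, ← card_mul_index C,
          hb, Nat.factorization_mul Nat.card_pos.ne' (pow_ne_zero _ hp.out.ne_zero),
          Finsupp.add_apply, hp.out.factorization_pow, Finsupp.single_eq_of_ne hrp]
        simp
      have hmem : d * z * d⁻¹ ∈ C := by
        have := Core.pCore_le_sylow R' (hzd d)
        rw [← SetLike.mem_coe, hR'] at this
        exact map_subtype_le _ this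
      rw [hC, mem_centralizer_singleton_iff] at hmem
      exact hmem.symm
    · refine commute_of_normal_of_disjoint _ _ inferInstance inferInstance ?_ _ _ (hyc c) (hzd d)
      exact IsPGroup.disjoint_of_ne r s hrs _ _ Core.pCore_isPGroup Core.pCore_isPGroup
  have hcl1 : ∀ (c : G) (z : G), z ∈ T → ∀ d : G, Commute (c * x * c⁻¹) (d * z * d⁻¹) := by
    intro c z hz d
    have hle : closure T ≤ (centralizer ({d * z * d⁻¹} : Set G)).comap (MulAut.conj c).toMonoidHom := by
      rw [closure_le]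
      intro y hy
      simp only [SetLike.mem_coe, mem_comap, MulEquiv.coe_toMonoidHom, MulAut.conj_apply,
        mem_centralizer_singleton_iff]
      exact key y hy z hz c d
    have h1 := hle hxT
    simp only [mem_comap, MulEquiv.coe_toMonoidHom, MulAut.conj_apply,
      mem_centralizer_singleton_iff] at h1
    exact h1
  have hle : closure T ≤ (centralizer ({g * x * g⁻¹} : Set G)).comap (MulAut.conj h).toMonoidHom := by
    rw [closure_le]
    intro y hy
    simp only [SetLike.mem_coe, mem_comap, MulEquiv.coe_toMonoidHom, MulAut.conj_apply,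
      mem_centralizer_singleton_iff]
    exact (hcl1 g y hy h).symm
  have h1 := hle hxT
  simp only [mem_comap, MulEquiv.coe_toMonoidHom, MulAut.conj_apply,
    mem_centralizer_singleton_iff] at h1
  exact h1.symm

omit hq in
/-- Commutators of conjugates of an element with `p`-power class lie in `O_p(G)`. -/
theorem commutator_conj_mem_pCore {x : G} {a : ℕ}
    (hcl : (centralizer ({x} : Set G)).index = p ^ a) (g h : G) :
    (g * x * g⁻¹) * (h * x * h⁻¹) * (g * x * g⁻¹)⁻¹ * (h * x * h⁻¹)⁻¹ ∈ Cfsg.pCore p G := by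
  set f := QuotientGroup.mk' (Cfsg.pCore p G) with hf
  have hsurj : Function.Surjective f := QuotientGroup.mk'_surjective _
  have hle : (centralizer ({x} : Set G)).map f ≤
      centralizer ({f x} : Set (G ⧸ Cfsg.pCore p G)) := by
    rintro _ ⟨z, hz, rfl⟩
    rw [mem_centralizer_singleton_iff, ← map_mul, ← map_mul,
      mem_centralizer_singleton_iff.1 hz]
  obtain ⟨b, -, hb⟩ := (Nat.dvd_prime_pow hp.out).1
    (hcl ▸ (index_dvd_of_le hle).trans (index_map_dvd _ hsurj))
  have hc := commute_conj (Core.pCore_quotient_eq_bot (p := p) (G := G)) hb (f g) (f h)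
  rw [← QuotientGroup.eq_one_iff]
  change f _ = 1
  simp only [map_mul, map_inv]
  rw [hc.eq]
  group

end Cfsg.Agent.Kazarin
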