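import Mathlib
import Cfsg.Agent.BlockThms.OrderP.Main

/-!
# A self-centralizing Sylow subgroup of prime order

Degrees modulo `p`, values at the elements of order `p`, and the count of these elements.
-/

set_option autoImplicit false

namespace Cfsg.Agent.BlockApp.PrimeData

open Cfsg.Agent Cfsg.Agent.Blocks

universe u

variable {G : Type u} [Group G] [Fintype G] {p : ℕ} [Fact p.Prime] {P : Sylow p G} {e : ℕ}

/-- Outside the principal block the degrees are divisible by `p`. -/
theorem dvd_of_notMem (hS : BlockThms.OrderP.Setup P e)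
    (hC : Nat.card (Subgroup.centralizer (P : Set G)) = p) {M : Ideal Cfsg.AlgInt}
    (hM : Cfsg.IsPModular p M) {χ : Cfsg.IrrCharacter G}
    (hχ : χ ∉ Cfsg.principalBlock M G) : p ∣ Cfsg.charDegree (χ : G → ℂ) := by
  classical
  have hp : p.Prime := Fact.out
  obtain ⟨x, hx, hx1, hxo⟩ := hS.exists_gen
  have h1 := hS.card_fiber hx hx1
  rw [hS.centralizer_eq hx hx1, hC] at h1
  have h2 : (BlockThms.OrderP.fiber p x).card = 1 :=
    Nat.eq_of_mul_eq_mul_right hp.pos (h1.trans (one_mul p).symm)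
  have h3 : BlockThms.OrderP.fiber p x = {x} := by
    obtain ⟨y, hy⟩ := Finset.card_eq_one.1 h2
    have h4 := BlockThms.OrderP.self_mem_fiber (p := p) (P := P) hx
    rw [hy, Finset.mem_singleton] at h4
    rw [hy, h4]
  have h0 := hS.avg_eq_zero hM hx hx1 hχ
  rw [BlockThms.OrderP.avg, h3, Finset.card_singleton, Finset.sum_singleton, Nat.cast_one,
    inv_one, one_mul] at h0
  have hχc := Char.IsIrr.isCharacter χ.2
  have h5 := memLocalIdeal_char_sub_pPrimePart hM hχc x
  have h6 : pPrimePartOf p x = 1 := by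
    have h7 := (parts_mul hp (Commute.one_right x) ⟨1, by rw [hxo, pow_one]⟩
      (by rw [orderOf_one, Nat.dvd_one]; exact hp.ne_one)).2
    rwa [mul_one] at h7
  rw [h6, h0, ← charDegree_cast hχc, sub_zero] at h5
  have h8 : (p : ℤ) ∣ (Cfsg.charDegree (χ : G → ℂ) : ℤ) := by
    rw [← Blocks.memLocalIdeal_intCast_iff hM]
    push_cast
    exact h5
  exact_mod_cast h8

/-- Every degree is `0`, `±1` or `±e` modulo `p`. -/
theorem degree_cases (hS : BlockThms.OrderP.Setup P e)
    (hC : Nat.card (Subgroup.centralizer (P : Set G)) = p) (χ : Cfsg.IrrCharacter G) :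
    p ∣ Cfsg.charDegree (χ : G → ℂ) ∨
      (Cfsg.charDegree (χ : G → ℂ) : ℤ) ≡ 1 [ZMOD p] ∨
      (Cfsg.charDegree (χ : G → ℂ) : ℤ) ≡ -1 [ZMOD p] ∨
      (Cfsg.charDegree (χ : G → ℂ) : ℤ) ≡ (e : ℤ) [ZMOD p] ∨
      (Cfsg.charDegree (χ : G → ℂ) : ℤ) ≡ -(e : ℤ) [ZMOD p] := by
  obtain ⟨M, hM⟩ := Blocks.exists_isPModular p (Fact.out : p.Prime)
  by_cases h : χ ∈ Cfsg.principalBlock M G
  · exact Or.inr ((hS.principal_block hM).2 χ h)
  · exact Or.inl (dvd_of_notMem hS hC hM h)

/-- At an element of order `p` a character of degree `±1` modulo `p`, but not `±e`, is `±1`. -/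
theorem value_eq (hS : BlockThms.OrderP.Setup P e)
    (hC : Nat.card (Subgroup.centralizer (P : Set G)) = p) (hp2 : 2 < p)
    (χ : Cfsg.IrrCharacter G) (c : ℤ) (hc : c = 1 ∨ c = -1)
    (hd : (Cfsg.charDegree (χ : G → ℂ) : ℤ) ≡ c [ZMOD p])
    (he1 : ¬ (c ≡ (e : ℤ) [ZMOD p])) (he2 : ¬ (c ≡ -(e : ℤ) [ZMOD p]))
    {z : G} (hz : z ∈ (P : Subgroup G)) (hz1 : z ≠ 1) : (χ : G → ℂ) z = c := by
  have hp : p.Prime := Fact.out
  obtain ⟨M, hM⟩ := Blocks.exists_isPModular p hp
  obtain ⟨X, Y, a, s, -, -, -, hmem, hs, hX, hY, -, -⟩ := hS.principal_structure hM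
  have hnd : ¬ p ∣ Cfsg.charDegree (χ : G → ℂ) := fun h => by
    have h1 : (Cfsg.charDegree (χ : G → ℂ) : ℤ) ≡ 0 [ZMOD p] :=
      Int.modEq_zero_iff_dvd.2 (Int.natCast_dvd_natCast.2 h)
    have h2 : (p : ℤ) ∣ c := Int.modEq_zero_iff_dvd.1 (hd.symm.trans h1)
    rcases hc with rfl | rfl
    · have := Int.le_of_dvd one_pos h2
      omega
    · have := Int.le_of_dvd one_pos (dvd_neg.1 h2)
      omega
  rcases (hmem χ).1 (by_contra fun h => hnd (dvd_of_notMem hS hC hM h)) with h | h
  · obtain ⟨ha, hda, hval⟩ := hX χ h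
    have h1 := hval z hz hz1 1 (one_mem _) (by rw [orderOf_one, Nat.dvd_one]; exact hp.ne_one)
    rw [mul_one] at h1
    rw [h1]
    have h2 : (p : ℤ) ∣ a χ - c := Int.modEq_iff_dvd.1 (hd.symm.trans hda)
    suffices a χ = c by rw [this]
    exact sub_eq_zero.1 (Int.eq_zero_of_abs_lt_dvd h2 (abs_lt.2 ⟨by omega, by omega⟩))
  · have h1 := hd.symm.trans (hY χ h)
    rcases hs with rfl | rfl
    · exact absurd (by simpa using h1) he2
    · exact absurd (by simpa using h1) he1

/-- The elements of order `p`, counted with the Sylow subgroups. -/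
theorem card_orderOf {G : Type u} [Group G] [Finite G] {p : ℕ} [hp : Fact p.Prime]
    (h : ∀ Q : Sylow p G, Nat.card (Q : Subgroup G) = p) :
    Nat.card {g : G // orderOf g = p} = Nat.card (Sylow p G) * (p - 1) := by
  classical
  have hord : ∀ (Q : Sylow p G) (x : (Q : Subgroup G)), x ≠ 1 → orderOf (x : G) = p := by
    intro Q x hx
    rw [Subgroup.orderOf_coe]
    exact orderOf_eq_prime (by have := pow_card_eq_one' (x := x); rwa [h Q] at this) hx
  have hgen : ∀ (Q : Sylow p G) (g : G), g ∈ (Q : Subgroup G) → orderOf g = p →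
      Subgroup.zpowers g = (Q : Subgroup G) := fun Q g hg ho =>
    Subgroup.eq_of_le_of_card_ge (Subgroup.zpowers_le.2 hg) (by rw [h Q, Nat.card_zpowers, ho])
  let F : (Σ Q : Sylow p G, {x : (Q : Subgroup G) // x ≠ 1}) → {g : G // orderOf g = p} :=
    fun s => ⟨(s.2.1 : G), hord s.1 s.2.1 s.2.2⟩
  have hbij : Function.Bijective F := by
    refine ⟨fun s t hst => ?_, fun g => ?_⟩
    · obtain ⟨Q, x, hx⟩ := s
      obtain ⟨R, y, hy⟩ := t
      have e : (x : G) = (y : G) := congrArg Subtype.val hst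
      have hQR : Q = R := Sylow.ext (by
        rw [← hgen Q x x.2 (hord Q x hx), ← hgen R y y.2 (hord R y hy), e])
      subst hQR
      have : x = y := Subtype.ext e
      subst this
      rfl
    · obtain ⟨Q, hQ⟩ := (IsPGroup.of_card (p := p) (n := 1)
        (by rw [Nat.card_zpowers, g.2, pow_one]) :
        IsPGroup p (Subgroup.zpowers (g : G))).exists_le_sylow
      refine ⟨⟨Q, ⟨(g : G), hQ (Subgroup.mem_zpowers _)⟩, fun e => ?_⟩, rfl⟩
      have h1 := g.2
      rw [show (g : G) = 1 from congrArg Subtype.val e, orderOf_one] at h1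
      exact hp.out.ne_one h1.symm
  have := Fintype.ofFinite (Sylow p G)
  rw [← Nat.card_eq_of_bijective F hbij, Nat.card_sigma,
    Finset.sum_congr rfl (g := fun _ => p - 1) fun Q _ => ?_]
  · rw [Finset.sum_const, smul_eq_mul, Finset.card_univ, Nat.card_eq_fintype_card]
  · have := Fintype.ofFinite (Q : Subgroup G)
    rw [Nat.card_eq_fintype_card, Fintype.card_subtype_compl, Fintype.card_subtype_eq,
      ← Nat.card_eq_fintype_card, h Q]

/-- Commuting permutations of prime power order: a congruence between fixed point counts. -/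
theorem fix_modEq {α : Type*} [Fintype α] [DecidableEq α] {σ τ : Equiv.Perm α}
    (hc : Commute σ τ) {r : ℕ} [hr : Fact r.Prime] (hτ : τ ^ r = 1) :
    (Finset.univ.filter fun a => σ a = a ∧ τ a = a).card ≡
      (Finset.univ.filter fun a => σ a = a).card [MOD r] := by
  classical
  let s := {a : α // σ a = a}
  have hs : ∀ a, σ (τ a) = τ a ↔ σ a = a := fun a => by
    rw [show σ (τ a) = τ (σ a) from Equiv.Perm.ext_iff.1 hc.eq a, τ.injective.eq_iff]
  let π : Equiv.Perm s := τ.subtypePerm hs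
  have hπ : π ^ r ^ 1 = 1 := by
    rw [pow_one, Equiv.Perm.subtypePerm_pow]
    ext a
    simp [hτ]
  have h := Equiv.Perm.card_compl_support_modEq hπ
  rw [Fintype.card_subtype] at h
  have e : (π.supportᶜ).card = (Finset.univ.filter fun a => σ a = a ∧ τ a = a).card := by
    refine Finset.card_bij (fun a _ => (a : α)) (fun a ha => ?_) (fun a _ b _ => Subtype.ext)
      (fun b hb => ?_)
    · rw [Finset.mem_compl, Equiv.Perm.notMem_support] at ha
      exact Finset.mem_filter.2 ⟨Finset.mem_univ _, a.2, congrArg Subtype.val ha⟩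
    · obtain ⟨-, h1, h2⟩ := Finset.mem_filter.1 hb
      refine ⟨⟨b, h1⟩, ?_, rfl⟩
      rw [Finset.mem_compl, Equiv.Perm.notMem_support]
      exact Subtype.ext h2
  rwa [e] at h

end Cfsg.Agent.BlockApp.PrimeData
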