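import Mathlib
import Cfsg.Agent.BlockApp.SelfCentralPrime
import Cfsg.Agent.Compute.FixedCounts

/-!
# Fixed points of commuting elements of prime order in the Mathieu groups
-/

set_option autoImplicit false

namespace Cfsg.Agent.BlockApp.MathieuCommute

open Cfsg Cfsg.Agent Cfsg.Agent.Compute

/-- The fixed points of a permutation of the 24 points. -/
abbrev fx (x : Equiv.Perm GolayPt) : Finset GolayPt := Finset.univ.filter fun p => x p = p

theorem mem_fx {x : Equiv.Perm GolayPt} {p : GolayPt} : p ∈ fx x ↔ x p = p := by simp [fx]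

/-- An element with five fixed points has order dividing 48. -/
theorem orderOf_dvd_of_five_le {x : Equiv.Perm GolayPt} (hx : x ∈ M24) (h : 5 ≤ (fx x).card) :
    orderOf x ∣ 48 := by
  obtain ⟨s, hs, hsc⟩ := Finset.exists_subset_card_eq h
  obtain ⟨g, hg, hgm⟩ := m24_tupleTrans s.toList s.nodup_toList (by simp) (by simp [hsc])
  have hb : ∀ b ∈ [rep24.pt 23, rep24.pt 0, rep24.pt 1, rep24.pt 2, rep24.pt 3],
      (g⁻¹ * x * g) b = b := fun b hb => by
    have h1 : g b ∈ s := Finset.mem_toList.1 (hgm ▸ List.mem_map_of_mem hb)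
    simp [mem_fx.1 (hs h1)]
  have hz : g⁻¹ * x * g ∈ M24 := mul_mem (mul_mem (inv_mem hg) hx) hg
  rw [m24_eq] at hz
  obtain ⟨b0, b1, b2, b3, b4, -, -⟩ := bases_m24a
  have k0 := m24a_check
  have k1 := Rep.checkChain_tail k0
  have k2 := Rep.checkChain_tail k1
  have k3 := Rep.checkChain_tail k2
  have k4 := Rep.checkChain_tail k3
  have k5 := Rep.checkChain_tail k4
  have m1 : g⁻¹ * x * g ∈ rep24.chainGroup _ :=
    Rep.chainGroup_inf_stabilizer k0 b0 ▸ Subgroup.mem_inf.mpr ⟨hz, hb _ (by simp)⟩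
  have m2 : g⁻¹ * x * g ∈ rep24.chainGroup _ :=
    Rep.chainGroup_inf_stabilizer k1 b1 ▸ Subgroup.mem_inf.mpr ⟨m1, hb _ (by simp)⟩
  have m3 : g⁻¹ * x * g ∈ rep24.chainGroup _ :=
    Rep.chainGroup_inf_stabilizer k2 b2 ▸ Subgroup.mem_inf.mpr ⟨m2, hb _ (by simp)⟩
  have m4 : g⁻¹ * x * g ∈ rep24.chainGroup _ :=
    Rep.chainGroup_inf_stabilizer k3 b3 ▸ Subgroup.mem_inf.mpr ⟨m3, hb _ (by simp)⟩
  have m5 : g⁻¹ * x * g ∈ rep24.chainGroup _ :=
    Rep.chainGroup_inf_stabilizer k4 b4 ▸ Subgroup.mem_inf.mpr ⟨m4, hb _ (by simp)⟩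
  have hcard : Nat.card (rep24.chainGroup [m24aL5, m24aL6]) = 48 :=
    (Rep.card_chainGroup _ k5).trans (by decide +kernel)
  have h1 := orderOf_dvd_natCard (⟨_, m5⟩ : rep24.chainGroup [m24aL5, m24aL6])
  rw [hcard, ← Subgroup.orderOf_coe] at h1
  have h2 : orderOf (g⁻¹ * x * g) = orderOf x := by
    have := orderOf_injective (MulAut.conj g⁻¹).toMonoidHom (MulAut.conj g⁻¹).injective x
    simpa using this
  rwa [h2] at h1

/-- The fixed points modulo the prime order. -/
theorem card_fx_modEq {x : Equiv.Perm GolayPt} {q : ℕ} [Fact q.Prime] (hx : x ^ q = 1) :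
    (fx x).card ≡ 24 [MOD q] := by
  have h := Equiv.Perm.card_compl_support_modEq (p := q) (n := 1) (σ := x) (by rwa [pow_one])
  rw [show Fintype.card GolayPt = 24 by simp] at h
  have e : fx x = x.supportᶜ := by ext p; simp [fx]
  rwa [e]

/-- The number of fixed points of an element of prime order. -/
theorem card_fx {x : Equiv.Perm GolayPt} (hx : x ∈ M24) {q : ℕ} [hq : Fact q.Prime]
    (ho : orderOf x = q) :
    (q = 2 → (fx x).card = 8 ∨ (fx x).card = 0) ∧
    (q = 3 → (fx x).card = 6 ∨ (fx x).card = 0) ∧ (q = 5 → (fx x).card = 4) ∧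
    (q = 7 → (fx x).card = 3) ∧ (q = 11 → (fx x).card = 2) ∧ (q = 23 → (fx x).card = 1) := by
  have hmod : (fx x).card % q = 24 % q := card_fx_modEq (by rw [← ho, pow_orderOf_eq_one])
  have hsmall : ¬ q ∣ 48 → (fx x).card ≤ 4 := fun h => by
    by_contra h5
    exact h (ho ▸ orderOf_dvd_of_five_le hx (by omega))
  refine ⟨?_, ?_, ?_, ?_, ?_, ?_⟩ <;> rintro rfl
  · rcases involution_cases hx ho with ⟨h, -, -⟩ | ⟨h, -⟩
    · exact Or.inl h
    · exact Or.inr (card_fixFilter_zero h)
  · rcases three_cases hx ho with ⟨h, -⟩ | ⟨h, -⟩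
    · exact Or.inl h
    · exact Or.inr (card_fixFilter_zero h)
  all_goals have := hsmall (by norm_num); omega

/-- The common fixed points of commuting elements, modulo the order of the second. -/
theorem inter_modEq {x y : Equiv.Perm GolayPt} (hc : Commute x y) {r : ℕ} [Fact r.Prime]
    (hy : y ^ r = 1) : (fx x ∩ fx y).card ≡ (fx x).card [MOD r] := by
  have := PrimeData.fix_modEq hc hy
  rwa [← Finset.filter_and]

/-- The common fixed points of two commuting elements of prime orders. -/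
theorem inter_data {x y : Equiv.Perm GolayPt} (hc : Commute x y) {q r : ℕ} [Fact q.Prime]
    [Fact r.Prime] (hx : orderOf x = q) (hy : orderOf y = r) :
    (fx x ∩ fx y).card ≤ (fx x).card ∧ (fx x ∩ fx y).card ≤ (fx y).card ∧
      (fx x ∩ fx y).card % r = (fx x).card % r ∧ (fx x ∩ fx y).card % q = (fx y).card % q := by
  refine ⟨Finset.card_le_card Finset.inter_subset_left,
    Finset.card_le_card Finset.inter_subset_right,
    inter_modEq hc (by rw [← hy, pow_orderOf_eq_one]), ?_⟩
  rw [Finset.inter_comm]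
  exact inter_modEq hc.symm (by rw [← hx, pow_orderOf_eq_one])

end Cfsg.Agent.BlockApp.MathieuCommute
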