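import Mathlib
import Cfsg.Agent.BlockApp.MathieuCommute
import Cfsg.Agent.Compute.CentThree
import Cfsg.Agent.Compute.IsoTools

/-!
# Checked facts about small subgroups of M24
-/

set_option autoImplicit false

namespace Cfsg.Agent.BlockApp.M24Certs

open Cfsg Cfsg.Agent Cfsg.Agent.Compute

/-- The two codes commute. -/
noncomputable def commBool (a b : ℕ) : Bool :=
  allBelow 24 (fun i => Nat.beq (rep24.act a (rep24.act b i)) (rep24.act b (rep24.act a i)))

theorem commBool_iff {a b : ℕ} (ha : rep24.Ok a) (hb : rep24.Ok b) :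
    commBool a b = true ↔ Commute (rep24.den a) (rep24.den b) := by
  simp only [commBool, allBelow_eq_true, Nat.beq_eq]
  have hab : ∀ {x y : ℕ}, rep24.Ok x → rep24.Ok y → ∀ p,
      ptIdx ((rep24.den x * rep24.den y) p) = rep24.act x (rep24.act y (ptIdx p)) := by
    intro x y hx hy p
    rw [Equiv.Perm.mul_apply, ptIdx_den hx, ptIdx_den hy]
  constructor
  · intro h
    refine Equiv.ext fun p => ptIdx_injective ?_
    rw [hab ha hb, hab hb ha]
    exact h _ (ptIdx_lt p)
  · intro h i hi
    have h1 := hab ha hb (rep24.pt i)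
    rw [h.eq, hab hb ha, ptIdx_rep24 hi] at h1
    exact h1.symm

/-- The number of elements of a checked group with a decidable property. -/
theorem ncard_filter (K : List Level) (hc : rep24.checkChain K = true) (b : ℕ → Bool)
    (P : Equiv.Perm GolayPt → Prop) (hb : ∀ c, rep24.Ok c → (b c = true ↔ P (rep24.den c)))
    (hnd : (((rep24.chainElems K).filter b).map canonCode).Nodup) :
    {x | x ∈ rep24.chainGroup K ∧ P x}.ncard = ((rep24.chainElems K).filter b).length := by
  classical
  set L := (rep24.chainElems K).filter b with hL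
  have hok : ∀ c ∈ L, rep24.Ok c ∧ rep24.den c ∈ rep24.chainGroup K ∧ b c = true := by
    intro c hc'
    obtain ⟨h1, h2⟩ := List.mem_filter.1 hc'
    obtain ⟨h3, h4⟩ := rep24.chainElems_mem K hc h1
    exact ⟨h3, h4, h2⟩
  have hset : {x | x ∈ rep24.chainGroup K ∧ P x} =
      (((L.map rep24.den).toFinset : Finset (Equiv.Perm GolayPt)) : Set (Equiv.Perm GolayPt)) := by
    ext x
    simp only [List.coe_toFinset, List.mem_map, Set.mem_ofPred_eq]
    constructor
    · rintro ⟨hx, hP⟩
      obtain ⟨c, hcm, hcok, rfl⟩ := rep24.exists_elem K hc hx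
      exact ⟨c, List.mem_filter.2 ⟨hcm, (hb c hcok).2 hP⟩, rfl⟩
    · rintro ⟨c, hcm, rfl⟩
      obtain ⟨h1, h2, h3⟩ := hok c hcm
      exact ⟨h2, (hb c h1).1 h3⟩
  rw [hset, Set.ncard_coe_finset, List.toFinset_card_of_nodup, List.length_map]
  refine List.Nodup.map_on ?_ hnd.of_map
  intro u hu v hv e
  exact List.inj_on_of_nodup_map hnd hu hv (canonCode_congr (hok u hu).1 (hok v hv).1 e)

/-- Order three. -/
noncomputable def threeBool (c : ℕ) : Bool := !(idB c) && idB (rep24.powCode c 3)

theorem threeBool_iff {c : ℕ} (hc : rep24.Ok c) :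
    threeBool c = true ↔ orderOf (rep24.den c) = 3 := by
  have : Fact (Nat.Prime 3) := ⟨Nat.prime_three⟩
  obtain ⟨hokp, hdenp⟩ := rep24.powCode_spec hc 3
  rw [threeBool, Bool.and_eq_true, Bool.not_eq_true', ← Bool.not_eq_true, idB_iff hc,
    idB_iff hokp, hdenp, orderOf_eq_prime_iff]
  exact and_comm

/-- In a chain, some element of order three commutes with exactly `n` elements. -/
noncomputable def certBool (K : List Level) (n : ℕ) : Bool :=
  (rep24.chainElems K).any fun y => threeBool y &&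
    (Nat.beq (((rep24.chainElems K).filter fun c => commBool c y)).length n &&
      decide (((rep24.chainElems K).filter fun c => commBool c y).map canonCode).Nodup)

theorem exists_three_of_cert {K : List Level} {n : ℕ} (hc : rep24.checkChain K = true)
    (h : certBool K n = true) :
    ∃ y ∈ rep24.chainGroup K, orderOf y = 3 ∧
      {x | x ∈ rep24.chainGroup K ∧ Commute x y}.ncard = n := by
  simp only [certBool, List.any_eq_true, Bool.and_eq_true, Nat.beq_eq, decide_eq_true_eq] at h
  obtain ⟨y, hy, h3, hlen, hnd⟩ := h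
  obtain ⟨hyok, hym⟩ := rep24.chainElems_mem K hc hy
  refine ⟨_, hym, (threeBool_iff hyok).1 h3, ?_⟩
  rw [ncard_filter K hc _ (fun x => Commute x (rep24.den y))
    (fun c hcok => commBool_iff hcok hyok) hnd, hlen]

theorem invA_cert : certBool centInvAChain 24 = true := by decide +kernel

theorem invB_cert : certBool centInvBChain 24 = true := by decide +kernel

theorem five_count :
    ((rep24.chainElems [m24aL5, m24aL6]).filter threeBool).length = 32 ∧
      (((rep24.chainElems [m24aL5, m24aL6]).filter threeBool).map canonCode).Nodup := by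
  decide +kernel

theorem syl3_exponent : (rep24.chainElems syl3Chain).all (fun c => idB (rep24.powCode c 3)) = true := by
  decide +kernel

/-- An element of 3-power order of M24 has order at most three. -/
theorem pow_three_eq_one {g : Equiv.Perm GolayPt} (hg : g ∈ M24) {k : ℕ}
    (h : orderOf g = 3 ^ k) : g ^ 3 = 1 := by
  have := Fact.mk Nat.prime_three
  obtain ⟨hc, hgens, hsize⟩ := syl_checks.2
  have hle : rep24.chainGroup syl3Chain ≤ M24 := by
    rw [Rep.chainGroup, Rep.span, Subgroup.closure_le]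
    rintro _ ⟨t, ht, rfl⟩
    exact (mem_M24_of_check (List.all_eq_true.mp hgens t ht)).2
  have hX : IsPGroup 3 (Subgroup.zpowers (⟨g, hg⟩ : ↥M24)) := IsPGroup.of_card (n := k) (by
    rw [Nat.card_zpowers, ← h]
    exact Subgroup.orderOf_mk _ _)
  obtain ⟨t, ht, htP⟩ := exists_conj_sylow hle
    (by rw [Rep.card_chainGroup _ hc, hsize]) (by decide) hX
  obtain ⟨c, hcm, hok, hden⟩ := rep24.exists_elem _ hc (htP _ (Subgroup.mem_zpowers _))
  obtain ⟨hokp, hdenp⟩ := rep24.powCode_spec hok 3
  have h3 := List.all_eq_true.mp syl3_exponent c hcm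
  rw [idB_iff hokp, hdenp, hden, conj_pow, conj_eq_one_iff] at h3
  exact h3

/-- A subgroup fixing five points has order dividing 48. -/
theorem card_dvd_of_five_le {H : Subgroup (Equiv.Perm GolayPt)} (hH : H ≤ M24)
    (s : Finset GolayPt) (hs : 5 ≤ s.card) (hfix : ∀ h ∈ H, ∀ a ∈ s, h a = a) :
    Nat.card H ∣ 48 := by
  obtain ⟨s', hs', hsc⟩ := Finset.exists_subset_card_eq hs
  obtain ⟨g, hg, hgm⟩ := m24_tupleTrans s'.toList s'.nodup_toList (by simp) (by simp [hsc])
  have hb : ∀ x ∈ H, ∀ b ∈ [rep24.pt 23, rep24.pt 0, rep24.pt 1, rep24.pt 2, rep24.pt 3],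
      (g⁻¹ * x * g) b = b := fun x hx b hb => by
    have h1 : g b ∈ s' := Finset.mem_toList.1 (hgm ▸ List.mem_map_of_mem hb)
    simp [hfix x hx _ (hs' h1)]
  obtain ⟨b0, b1, b2, b3, b4, -, -⟩ := bases_m24a
  have k0 := m24a_check
  have k1 := Rep.checkChain_tail k0
  have k2 := Rep.checkChain_tail k1
  have k3 := Rep.checkChain_tail k2
  have k4 := Rep.checkChain_tail k3
  have k5 := Rep.checkChain_tail k4
  have hle : H.map (MulAut.conj g⁻¹).toMonoidHom ≤ rep24.chainGroup [m24aL5, m24aL6] := by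
    rintro _ ⟨x, hx, rfl⟩
    simp only [MulEquiv.coe_toMonoidHom, MulAut.conj_apply, inv_inv]
    have hz : g⁻¹ * x * g ∈ M24 := mul_mem (mul_mem (inv_mem hg) (hH hx)) hg
    rw [m24_eq] at hz
    have m1 : g⁻¹ * x * g ∈ rep24.chainGroup _ :=
      Rep.chainGroup_inf_stabilizer k0 b0 ▸ Subgroup.mem_inf.mpr ⟨hz, hb x hx _ (by simp)⟩
    have m2 : g⁻¹ * x * g ∈ rep24.chainGroup _ :=
      Rep.chainGroup_inf_stabilizer k1 b1 ▸ Subgroup.mem_inf.mpr ⟨m1, hb x hx _ (by simp)⟩
    have m3 : g⁻¹ * x * g ∈ rep24.chainGroup _ :=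
      Rep.chainGroup_inf_stabilizer k2 b2 ▸ Subgroup.mem_inf.mpr ⟨m2, hb x hx _ (by simp)⟩
    have m4 : g⁻¹ * x * g ∈ rep24.chainGroup _ :=
      Rep.chainGroup_inf_stabilizer k3 b3 ▸ Subgroup.mem_inf.mpr ⟨m3, hb x hx _ (by simp)⟩
    exact Rep.chainGroup_inf_stabilizer k4 b4 ▸ Subgroup.mem_inf.mpr ⟨m4, hb x hx _ (by simp)⟩
  have h1 := Subgroup.card_dvd_of_le hle
  rw [Subgroup.card_map_of_injective (MulAut.conj g⁻¹).injective,
    Rep.card_chainGroup _ k5, show chainSize [m24aL5, m24aL6] = 48 by decide +kernel] at h1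
  exact h1

end Cfsg.Agent.BlockApp.M24Certs
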