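import Mathlib
import Cfsg.Agent.BlockApp.M24Certs
import Cfsg.Agent.Compute.Mathieu
import Cfsg.Agent.S5005

/-!
# The elements of order three of M22
-/

set_option autoImplicit false

namespace Cfsg.Agent.BlockApp.M22Count

open Cfsg Cfsg.Agent Cfsg.Agent.Compute

/-- The 22 points moved by M22. -/
abbrev S22 := {p : GolayPt // p ∉ ({none, some 0} : Finset GolayPt)}

theorem mem_S22_iff (p : GolayPt) : p ∉ ({none, some 0} : Finset GolayPt) ↔ p ∈ maskSet 0x800001 := by
  rw [show ({none, some 0} : Finset GolayPt) = suppM 0x800001 by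
    rw [suppM_pairPts, rep24_pt23, rep24_pt0]]
  simp [maskSet, mem_suppM]

/-- The elements of order three with a prescribed triple of fixed points. -/
theorem card_three_fix (f : Fin 3 ↪ S22) :
    {y : Equiv.Perm GolayPt | y ∈ Spor.M22 ∧ orderOf y = 3 ∧
      ∀ i, y (f i : GolayPt) = (f i : GolayPt)}.ncard = 32 := by
  classical
  obtain ⟨g, hg, hgm⟩ := m22_tupleTrans (List.ofFn fun i => (f i : GolayPt))
    (List.nodup_ofFn.2 (Subtype.val_injective.comp f.injective))
    (by intro p hp; obtain ⟨i, rfl⟩ := List.mem_ofFn.1 hp; exact (mem_S22_iff _).1 (f i).2)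
    (by simp)
  have e : g (rep24.pt 1) = f 0 ∧ g (rep24.pt 2) = f 1 ∧ g (rep24.pt 3) = f 2 := by
    simpa [List.ofFn_succ] using hgm
  obtain ⟨b0, b1, b2, b3, b4, -, -⟩ := bases_m24a
  have k2 := Rep.checkChain_tail (Rep.checkChain_tail m24a_check)
  have k3 := Rep.checkChain_tail k2
  have k4 := Rep.checkChain_tail k3
  have k5 := Rep.checkChain_tail k4
  have hmem : ∀ x, x ∈ rep24.chainGroup [m24aL5, m24aL6] ↔
      x ∈ Spor.M22 ∧ x (rep24.pt 1) = rep24.pt 1 ∧ x (rep24.pt 2) = rep24.pt 2 ∧
        x (rep24.pt 3) = rep24.pt 3 := by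
    intro x
    rw [← Rep.chainGroup_inf_stabilizer k4 b4, ← Rep.chainGroup_inf_stabilizer k3 b3,
      ← Rep.chainGroup_inf_stabilizer k2 b2, m22_eq]
    simp only [Subgroup.mem_inf, MulAction.mem_stabilizer_iff, Equiv.Perm.smul_def, and_assoc]
    rfl
  have h32 := M24Certs.ncard_filter [m24aL5, m24aL6] k5 M24Certs.threeBool (fun x => orderOf x = 3)
    (fun c hc => M24Certs.threeBool_iff hc) M24Certs.five_count.2
  rw [M24Certs.five_count.1] at h32
  rw [← h32]
  symm
  refine Set.ncard_congr (fun x _ => g * x * g⁻¹) (fun x hx => ?_)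
    (fun a b _ _ h => by simpa using h) (fun y hy => ⟨g⁻¹ * y * g, ?_, by group⟩)
  · obtain ⟨hxc, hx3⟩ := hx
    obtain ⟨hxM, h1, h2, h3⟩ := (hmem x).1 hxc
    refine ⟨mul_mem (mul_mem hg hxM) (inv_mem hg), ?_, fun i => ?_⟩
    · rw [← hx3]
      exact orderOf_injective (MulAut.conj g).toMonoidHom (MulAut.conj g).injective x
    · fin_cases i
      · show (g * x * g⁻¹) (f 0 : GolayPt) = f 0
        rw [← e.1]; simp [h1]
      · show (g * x * g⁻¹) (f 1 : GolayPt) = f 1
        rw [← e.2.1]; simp [h2]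
      · show (g * x * g⁻¹) (f 2 : GolayPt) = f 2
        rw [← e.2.2]; simp [h3]
  · obtain ⟨hyM, hy3, hyf⟩ := hy
    refine ⟨(hmem _).2 ⟨mul_mem (mul_mem (inv_mem hg) hyM) hg, ?_, ?_, ?_⟩, ?_⟩
    · rw [Equiv.Perm.mul_apply, Equiv.Perm.mul_apply, e.1, hyf 0, ← e.1, Equiv.Perm.inv_def,
        Equiv.symm_apply_apply]
    · rw [Equiv.Perm.mul_apply, Equiv.Perm.mul_apply, e.2.1, hyf 1, ← e.2.1, Equiv.Perm.inv_def,
        Equiv.symm_apply_apply]
    · rw [Equiv.Perm.mul_apply, Equiv.Perm.mul_apply, e.2.2, hyf 2, ← e.2.2, Equiv.Perm.inv_def,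
        Equiv.symm_apply_apply]
    · rw [← hy3]
      simpa using orderOf_injective (MulAut.conj g⁻¹).toMonoidHom (MulAut.conj g⁻¹).injective y

/-- M22 has 12320 elements of order three. -/
theorem card_three : Nat.card {g : ↥Spor.M22 // orderOf g = 3} = 12320 := by
  classical
  let A : Finset (Equiv.Perm GolayPt) := {y : Equiv.Perm GolayPt | y ∈ Spor.M22 ∧ orderOf y = 3}.toFinite.toFinset
  let T : Finset (Fin 3 ↪ S22) := Finset.univ
  let r : Equiv.Perm GolayPt → (Fin 3 ↪ S22) → Prop := fun y f =>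
    ∀ i, y (f i : GolayPt) = (f i : GolayPt)
  have hA : ∀ y, y ∈ A ↔ y ∈ Spor.M22 ∧ orderOf y = 3 := fun y => by simp [A]
  have hbelow : ∀ f ∈ T, (A.bipartiteBelow r f).card = 32 := by
    intro f _
    rw [← card_three_fix f, ← Set.ncard_coe_finset]
    congr 1
    ext y
    simp [Finset.bipartiteBelow, hA, r, and_assoc]
  have habove : ∀ y ∈ A, (T.bipartiteAbove r y).card = 24 := by
    intro y hy
    obtain ⟨hyM, hy3⟩ := (hA y).1 hy
    have h6 : (MathieuCommute.fx y).card = 6 := by
      simpa using S5005.fix_count ⟨y, hyM⟩ Nat.prime_three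
        (by rw [← Subgroup.orderOf_coe]; exact hy3)
    have h4 : Fintype.card {p : S22 // y p = (p : GolayPt)} = 4 := by
      rw [Fintype.card_congr (Equiv.subtypeSubtypeEquivSubtypeInter
        (fun p : GolayPt => p ∉ ({none, some 0} : Finset GolayPt)) (fun p => y p = p)),
        Fintype.card_subtype, show (Finset.univ.filter fun p : GolayPt =>
          p ∉ ({none, some 0} : Finset GolayPt) ∧ y p = p) =
          MathieuCommute.fx y \ {none, some 0} by
            ext p; simp [MathieuCommute.mem_fx, and_comm],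
        Finset.card_sdiff_of_subset, h6]
      · simp
      · intro p hp
        simp only [Finset.mem_insert, Finset.mem_singleton] at hp
        rcases hp with rfl | rfl
        · exact MathieuCommute.mem_fx.2 (S5005.fix_none ⟨y, hyM⟩)
        · exact MathieuCommute.mem_fx.2 (S5005.fix_zero ⟨y, hyM⟩)
    have e : {f : Fin 3 ↪ S22 // r y f} ≃ (Fin 3 ↪ {p : S22 // y p = (p : GolayPt)}) :=
      { toFun := fun f => ⟨fun i => ⟨f.1 i, f.2 i⟩, fun i j h => f.1.injective (congrArg Subtype.val h)⟩
        invFun := fun g => ⟨⟨fun i => (g i).1, fun i j h => g.injective (Subtype.ext h)⟩,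
          fun i => (g i).2⟩
        left_inv := fun f => rfl
        right_inv := fun g => rfl }
    rw [Finset.bipartiteAbove, ← Fintype.card_subtype, Fintype.card_congr e,
      Fintype.card_embedding_eq, h4, Fintype.card_fin]
    decide
  have hT : T.card = 9240 := by
    have h22 : Fintype.card S22 = 22 := by
      rw [Fintype.card_subtype_compl, Fintype.card_coe,
        show Fintype.card GolayPt = 24 by simp]
      simp
    rw [Finset.card_univ, Fintype.card_embedding_eq, h22, Fintype.card_fin]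
    decide
  have h := Finset.card_mul_eq_card_mul r habove hbelow
  rw [hT] at h
  have hc : Nat.card {g : ↥Spor.M22 // orderOf g = 3} = A.card := by
    rw [← Nat.card_eq_finsetCard]
    exact Nat.card_congr
      { toFun := fun g => ⟨(g.1 : Equiv.Perm GolayPt),
          (hA _).2 ⟨g.1.2, by rw [Subgroup.orderOf_coe]; exact g.2⟩⟩
        invFun := fun y => ⟨⟨y.1, ((hA _).1 y.2).1⟩,
          by rw [← Subgroup.orderOf_coe]; exact ((hA _).1 y.2).2⟩
        left_inv := fun g => rfl
        right_inv := fun y => rfl }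
  omega

/-- The elements of odd order of M22 have order 1, 3, 5, 7 or 11. -/
theorem odd_orders (g : ↥Spor.M22) (hg : ¬ 2 ∣ orderOf g) :
    orderOf g = 1 ∨ orderOf g = 3 ∨ orderOf g = 5 ∨ orderOf g = 7 ∨ orderOf g = 11 := by
  by_cases h1 : orderOf g = 1
  · exact Or.inl h1
  obtain ⟨q, hq, hqd⟩ := Nat.exists_prime_and_dvd h1
  have hsame : ∀ r : ℕ, r.Prime → r ∣ orderOf g → r = q := by
    intro r hr hrd
    by_contra hne
    rcases S5005.pair (g ^ (orderOf g / r)) (g ^ (orderOf g / q))
      ((Commute.refl g).pow_pow _ _) hr hq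
      (orderOf_pow_orderOf_div (orderOf_pos g).ne' hrd)
      (orderOf_pow_orderOf_div (orderOf_pos g).ne' hqd) hne with ⟨rfl, -⟩ | ⟨-, rfl⟩
    · exact hg hrd
    · exact hg hqd
  have hpow := Nat.eq_prime_pow_of_unique_prime_dvd (orderOf_pos g).ne'
    fun {r} hr hrd => hsame r hr hrd
  have hd := orderOf_dvd_natCard g
  rw [S5005.card_G] at hd
  rcases S5005.prime_cases hq (hqd.trans hd) with rfl | rfl | rfl | rfl | rfl
  · exact absurd hqd hg
  · have h3 := M24Certs.pow_three_eq_one (g := (g : Equiv.Perm GolayPt)) g.2.1.1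
      (k := (orderOf g).primeFactorsList.length) (by rw [Subgroup.orderOf_coe]; exact hpow)
    have h3' : orderOf g ∣ 3 := by
      rw [← Subgroup.orderOf_coe]; exact orderOf_dvd_of_pow_eq_one h3
    rcases (Nat.dvd_prime Nat.prime_three).1 h3' with h | h
    · exact absurd h h1
    · exact Or.inr (Or.inl h)
  all_goals
    rw [hpow] at hd h1 ⊢
    generalize (orderOf g).primeFactorsList.length = k at *
    rcases k with - | - | k
    · exact absurd (pow_zero _) h1
    · norm_num
    · exfalso
      have h2 := (Nat.pow_dvd_pow _ (show 2 ≤ k + 1 + 1 by omega)).trans hd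
      norm_num at h2

end Cfsg.Agent.BlockApp.M22Count
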