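import Mathlib
import Cfsg.Agent.BlockApp.M24Certs
import Cfsg.Agent.BlockThms.BrauerMap

/-!
# The centralizers of the elements of order 3, 5, 7, 11, 23 of M24, modulo 2-parts
-/

set_option autoImplicit false

namespace Cfsg.Agent.BlockApp.M24Cent

open Cfsg Cfsg.Agent Cfsg.Agent.BlockApp

/-- the group -/
abbrev G := ↥Cfsg.M24

theorem card_G : Nat.card G = 244823040 := Compute.card_m24

/-- the fixed points -/
noncomputable abbrev fxg (x : G) : Finset GolayPt := MathieuCommute.fx (x : Equiv.Perm GolayPt)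

theorem mem_fxg {x : G} {a : GolayPt} : a ∈ fxg x ↔ (x : Equiv.Perm GolayPt) a = a :=
  MathieuCommute.mem_fx

theorem prime_cases {q : ℕ} (hq : q.Prime) (h : q ∣ 244823040) :
    q = 2 ∨ q = 3 ∨ q = 5 ∨ q = 7 ∨ q = 11 ∨ q = 23 := by
  rw [show (244823040 : ℕ) = 2 ^ 10 * 3 ^ 3 * 5 * 7 * 11 * 23 by norm_num] at h
  have hpr : ∀ r : ℕ, r.Prime → q ∣ r → q = r := fun r hr h =>
    (Nat.prime_dvd_prime_iff_eq hq hr).1 h
  rcases hq.dvd_mul.1 h with h | h
  · rcases hq.dvd_mul.1 h with h | h
    · rcases hq.dvd_mul.1 h with h | h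
      · rcases hq.dvd_mul.1 h with h | h
        · rcases hq.dvd_mul.1 h with h | h
          · exact Or.inl (hpr 2 Nat.prime_two (hq.dvd_of_dvd_pow h))
          · exact Or.inr (Or.inl (hpr 3 Nat.prime_three (hq.dvd_of_dvd_pow h)))
        · exact Or.inr (Or.inr (Or.inl (hpr 5 (by norm_num) h)))
      · exact Or.inr (Or.inr (Or.inr (Or.inl (hpr 7 (by norm_num) h))))
    · exact Or.inr (Or.inr (Or.inr (Or.inr (Or.inl (hpr 11 (by norm_num) h)))))
  · exact Or.inr (Or.inr (Or.inr (Or.inr (Or.inr (hpr 23 (by norm_num) h)))))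

theorem fix_count (x : G) {q : ℕ} (hq : q.Prime) (ho : orderOf x = q) :
    (q, (fxg x).card) ∈
      [(2, 8), (2, 0), (3, 6), (3, 0), (5, 4), (7, 3), (11, 2), (23, 1)] := by
  have := Fact.mk hq
  obtain ⟨h2, h3, h5, h7, h11, h23⟩ := MathieuCommute.card_fx x.2 (q := q)
    (by rw [Subgroup.orderOf_coe, ho])
  rcases prime_cases hq (ho ▸ card_G ▸ orderOf_dvd_natCard x) with
    rfl | rfl | rfl | rfl | rfl | rfl
  · rcases h2 rfl with h | h <;> simp [fxg, h]
  · rcases h3 rfl with h | h <;> simp [fxg, h]
  · simp [fxg, h5 rfl]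
  · simp [fxg, h7 rfl]
  · simp [fxg, h11 rfl]
  · simp [fxg, h23 rfl]

theorem coe_commute {x y : G} (h : Commute x y) :
    Commute (x : Equiv.Perm GolayPt) (y : Equiv.Perm GolayPt) := congrArg Subtype.val h.eq

/-- The congruences for the common fixed points. -/
theorem pair_data (x y : G) (hc : Commute x y) {q r : ℕ} (hq : q.Prime) (hr : r.Prime)
    (hx : orderOf x = q) (hy : orderOf y = r) :
    (fxg x ∩ fxg y).card ≤ (fxg x).card ∧ (fxg x ∩ fxg y).card ≤ (fxg y).card ∧
      (fxg x ∩ fxg y).card % r = (fxg x).card % r ∧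
      (fxg x ∩ fxg y).card % q = (fxg y).card % q := by
  have := Fact.mk hq
  have := Fact.mk hr
  exact MathieuCommute.inter_data (coe_commute hc) (by rw [Subgroup.orderOf_coe, hx])
    (by rw [Subgroup.orderOf_coe, hy])

/-- The centralizer of an element, in the permutations. -/
theorem map_centralizer (t : G) :
    (Subgroup.centralizer ({t} : Set G)).map (Cfsg.M24).subtype =
      Compute.centM24 (t : Equiv.Perm GolayPt) := by
  ext c
  rw [Compute.mem_centM24, Subgroup.mem_map]
  constructor
  · rintro ⟨u, hu, rfl⟩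
    exact ⟨u.2, congrArg Subtype.val (Subgroup.mem_centralizer_singleton_iff.1 hu)⟩
  · rintro ⟨hc, h⟩
    exact ⟨⟨c, hc⟩, Subgroup.mem_centralizer_singleton_iff.2 (Subtype.ext h), rfl⟩

theorem card_centralizer_inv (t : G) (ht : orderOf t = 2) :
    ((fxg t).card = 8 ∧ Nat.card (Subgroup.centralizer ({t} : Set G)) = 21504) ∨
      ((fxg t).card = 0 ∧ Nat.card (Subgroup.centralizer ({t} : Set G)) = 7680) := by
  have h0 : Nat.card (Subgroup.centralizer ({t} : Set G)) =
      Nat.card ↥(Compute.centM24 (t : Equiv.Perm GolayPt)) := by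
    rw [← map_centralizer, Subgroup.card_map_of_injective Subtype.val_injective]
  have hA := Compute.invA_checks.2.1
  simp only [Compute.commB, Bool.and_eq_true] at hA
  rcases Compute.involution_cases t.2 (by rw [Subgroup.orderOf_coe, ht]) with
    ⟨h8, -, k, hk, hkt⟩ | ⟨hz, k, hk, hkt⟩
  · refine Or.inl ⟨h8, ?_⟩
    rw [h0, Compute.card_centM24_conj hk hkt, Compute.centInvA_eq,
      Compute.Rep.card_chainGroup _ hA.1, Compute.invB_chain_facts.2.2]
  · refine Or.inr ⟨Compute.card_fixFilter_zero hz, ?_⟩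
    rw [h0, Compute.card_centM24_conj hk hkt, Compute.centInvB_eq,
      Compute.Rep.card_chainGroup _ Compute.invB_chain_facts.1, Compute.invB_chain_facts.2.1]

/-- An element of order 3 and an involution that commute have both few or both no fixed points. -/
theorem three_two (y t : G) (hy : orderOf y = 3) (ht : orderOf t = 2) (hc : Commute y t) :
    ((fxg y).card = 6 ∧ (fxg t).card = 8) ∨ ((fxg y).card = 0 ∧ (fxg t).card = 0) := by
  have hA := Compute.invA_checks.2.1
  simp only [Compute.commB, Bool.and_eq_true] at hA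
  have hy' : orderOf (y : Equiv.Perm GolayPt) = 3 := by rw [Subgroup.orderOf_coe, hy]
  rcases Compute.involution_cases t.2 (by rw [Subgroup.orderOf_coe, ht]) with
    ⟨h8, -, k, hk, hkt⟩ | ⟨hz, k, hk, hkt⟩
  · exact Or.inl ⟨Compute.card_fix_of_threeFix Compute.invA_threeFix hA.1 Compute.centInvA_eq y.2
      (coe_commute hc) hk hkt hy', h8⟩
  · exact Or.inr ⟨Compute.card_fix_of_threeFix Compute.invB_threeFix Compute.invB_chain_facts.1
      Compute.centInvB_eq y.2 (coe_commute hc) hk hkt hy', Compute.card_fixFilter_zero hz⟩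

/-- The elements of order 11 and 23 commute with no element of another prime order. -/
theorem big_prime (x z : G) (hc : Commute x z) {p r : ℕ} (hp : p = 11 ∨ p = 23) (hr : r.Prime)
    (hx : orderOf x = p) (hz : orderOf z = r) : r = p := by
  have hpp : p.Prime := by rcases hp with rfl | rfl <;> norm_num
  obtain ⟨h1, h2, h3, h4⟩ := pair_data x z hc hpp hr hx hz
  have hxf := fix_count x hpp hx
  have hzf := fix_count z hr hz
  simp only [List.mem_cons, Prod.mk.injEq, List.not_mem_nil, or_false] at hxf hzf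
  by_contra hne
  rcases hzf with ⟨rfl, h⟩ | ⟨rfl, h⟩ | ⟨rfl, h⟩ | ⟨rfl, h⟩ | ⟨rfl, h⟩ | ⟨rfl, h⟩ | ⟨rfl, h⟩ |
    ⟨rfl, h⟩
  case inr.inl =>
    rcases hp with rfl | rfl
    · rcases card_centralizer_inv z hz with ⟨h', -⟩ | ⟨-, h'⟩
      · omega
      · have hd := Subgroup.orderOf_dvd_natCard _
          (Subgroup.mem_centralizer_singleton_iff.2 hc.eq : x ∈ Subgroup.centralizer ({z} : Set G))
        rw [hx, h'] at hd
        norm_num at hd
    · omega
  all_goals rcases hp with rfl | rfl <;> omega

theorem card_centralizer_big {p : ℕ} [hp : Fact p.Prime] (h : p = 11 ∨ p = 23) (P : Sylow p G)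
    {e : ℕ} (hS : BlockThms.OrderP.Setup P e) :
    Nat.card (Subgroup.centralizer (P : Set G)) = p := by
  obtain ⟨x, hx, -, hxo⟩ := hS.exists_gen
  have hall : ∀ r : ℕ, r.Prime → r ∣ Nat.card (Subgroup.centralizer (P : Set G)) → r = p := by
    intro r hr hrd
    have := Fact.mk hr
    obtain ⟨z, hz⟩ := exists_prime_orderOf_dvd_card' r hrd
    exact big_prime x (z : G) (Subgroup.mem_centralizer_iff.1 z.2 x hx) h hr hxo
      (by rw [Subgroup.orderOf_coe, hz])
  have h2 := Nat.eq_prime_pow_of_unique_prime_dvd Nat.card_pos.ne' fun {r} hr hrd => hall r hr hrd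
  have hfac := hS.factorization.1
  rw [h2, hp.out.factorization_pow, Finsupp.single_eq_same] at hfac
  rw [h2, hfac, pow_one]

/-! ### The action of a centralizer on the fixed points -/

theorem maps_fix (x : G) (c : Subgroup.centralizer ({x} : Set G)) (a : GolayPt) :
    ((c : G) : Equiv.Perm GolayPt) a ∈ fxg x ↔ a ∈ fxg x := by
  have h : Commute ((c : G) : Equiv.Perm GolayPt) (x : Equiv.Perm GolayPt) :=
    coe_commute (Subgroup.mem_centralizer_singleton_iff.1 c.2)
  rw [mem_fxg, mem_fxg, show (x : Equiv.Perm GolayPt) (((c : G) : Equiv.Perm GolayPt) a) =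
    ((c : G) : Equiv.Perm GolayPt) ((x : Equiv.Perm GolayPt) a) from
      (Equiv.Perm.ext_iff.1 h.eq a).symm, Equiv.apply_eq_iff_eq]

/-- The action on the fixed points. -/
noncomputable def restr (x : G) :
    Subgroup.centralizer ({x} : Set G) →* Equiv.Perm {a // a ∈ fxg x} where
  toFun c := ((c : G) : Equiv.Perm GolayPt).subtypePerm (maps_fix x c)
  map_one' := by ext a; rfl
  map_mul' c d := by ext a; rfl

theorem restr_apply (x : G) (c : Subgroup.centralizer ({x} : Set G)) (a : {a // a ∈ fxg x}) :
    (restr x c a : GolayPt) = ((c : G) : Equiv.Perm GolayPt) a := rfl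

theorem fix_of_mem_ker (x : G) {c : Subgroup.centralizer ({x} : Set G)}
    (hc : c ∈ (restr x).ker) {a : GolayPt} (ha : a ∈ fxg x) :
    ((c : G) : Equiv.Perm GolayPt) a = a := by
  have h := congrArg Subtype.val (Equiv.Perm.ext_iff.1 (MonoidHom.mem_ker.1 hc) ⟨a, ha⟩)
  rwa [restr_apply] at h

theorem card_dvd_ker_mul (x : G) :
    Nat.card (Subgroup.centralizer ({x} : Set G)) ∣
      Nat.card (restr x).ker * Nat.factorial (fxg x).card := by
  rw [← Subgroup.card_mul_index (restr x).ker, Subgroup.index_ker]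
  refine mul_dvd_mul_left _ ?_
  have h := Subgroup.card_subgroup_dvd_card (restr x).range
  rwa [Nat.card_perm, Nat.card_eq_finsetCard] at h

/-- The elements fixing all the fixed points form a `p`-group. -/
theorem ker_prime (x : G) {q : ℕ} (hq : q.Prime) (hx : orderOf x = q)
    (hfix : q = 5 ∨ q = 7 ∨ (q = 3 ∧ (fxg x).card = 6))
    {r : ℕ} (hr : r.Prime) (hrd : r ∣ Nat.card (restr x).ker) : r = q := by
  have := Fact.mk hr
  obtain ⟨z, hz⟩ := exists_prime_orderOf_dvd_card' r hrd
  have hzo : orderOf ((z : Subgroup.centralizer ({x} : Set G)) : G) = r := by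
    rw [Subgroup.orderOf_coe, Subgroup.orderOf_coe, hz]
  obtain ⟨h1, h2, h3, h4⟩ := pair_data x _
    (show Commute ((z : Subgroup.centralizer ({x} : Set G)) : G) x from
      Subgroup.mem_centralizer_singleton_iff.1 (z : Subgroup.centralizer ({x} : Set G)).2).symm
    hq hr hx hzo
  have hj : (fxg x ∩ fxg ((z : Subgroup.centralizer ({x} : Set G)) : G)).card = (fxg x).card := by
    rw [Finset.inter_eq_left.2]
    exact fun a ha => mem_fxg.2 (fix_of_mem_ker x z.2 ha)
  have hxf := fix_count x hq hx
  have hzf := fix_count _ hr hzo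
  simp only [List.mem_cons, Prod.mk.injEq, List.not_mem_nil, or_false] at hxf hzf
  by_contra hne
  rcases hzf with ⟨rfl, h⟩ | ⟨rfl, h⟩ | ⟨rfl, h⟩ | ⟨rfl, h⟩ | ⟨rfl, h⟩ | ⟨rfl, h⟩ | ⟨rfl, h⟩ |
    ⟨rfl, h⟩ <;> rcases hfix with rfl | rfl | ⟨rfl, h6⟩ <;> omega

theorem fac_G {q : ℕ} (hq : q = 5 ∨ q = 7 ∨ q = 11 ∨ q = 23) :
    (Nat.card G).factorization q = 1 := by
  rw [card_G]
  rcases hq with rfl | rfl | rfl | rfl
  · rw [show (244823040 : ℕ) = 5 * 48964608 by norm_num, Nat.factorization_mul (by norm_num)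
      (by norm_num), Finsupp.add_apply, Nat.Prime.factorization_self (by norm_num),
      Nat.factorization_eq_zero_of_not_dvd (by norm_num)]
  · rw [show (244823040 : ℕ) = 7 * 34974720 by norm_num, Nat.factorization_mul (by norm_num)
      (by norm_num), Finsupp.add_apply, Nat.Prime.factorization_self (by norm_num),
      Nat.factorization_eq_zero_of_not_dvd (by norm_num)]
  · rw [show (244823040 : ℕ) = 11 * 22256640 by norm_num, Nat.factorization_mul (by norm_num)
      (by norm_num), Finsupp.add_apply, Nat.Prime.factorization_self (by norm_num),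
      Nat.factorization_eq_zero_of_not_dvd (by norm_num)]
  · rw [show (244823040 : ℕ) = 23 * 10644480 by norm_num, Nat.factorization_mul (by norm_num)
      (by norm_num), Finsupp.add_apply, Nat.Prime.factorization_self (by norm_num),
      Nat.factorization_eq_zero_of_not_dvd (by norm_num)]

theorem card_ker_dvd (x : G) {q : ℕ} (hq : q = 5 ∨ q = 7) (hx : orderOf x = q) :
    Nat.card (restr x).ker ∣ q := by
  have hqp : q.Prime := by rcases hq with rfl | rfl <;> norm_num
  have hk := Nat.eq_prime_pow_of_unique_prime_dvd Nat.card_pos.ne' fun {r} hr hrd =>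
    ker_prime x hqp hx (hq.imp_right Or.inl) hr hrd
  have hd : Nat.card (restr x).ker ∣ Nat.card G :=
    (Subgroup.card_subgroup_dvd_card _).trans (Subgroup.card_subgroup_dvd_card _)
  rw [hk] at hd ⊢
  have h1 := (hqp.pow_dvd_iff_le_factorization Nat.card_pos.ne').1 hd
  rw [fac_G (by rcases hq with rfl | rfl <;> simp)] at h1
  calc q ^ _ ∣ q ^ 1 := Nat.pow_dvd_pow q h1
    _ = q := pow_one q

theorem card_ker_three (y : G) (hy : orderOf y = 3) (h6 : (fxg y).card = 6) :
    Nat.card (restr y).ker ∣ 3 := by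
  have hk := Nat.eq_prime_pow_of_unique_prime_dvd Nat.card_pos.ne' fun {r} hr hrd =>
    ker_prime y Nat.prime_three hy (Or.inr (Or.inr ⟨rfl, h6⟩)) hr hrd
  have hd := M24Certs.card_dvd_of_five_le
    (H := (((restr y).ker.map (Subgroup.centralizer ({y} : Set G)).subtype)).map Cfsg.M24.subtype)
    (by rintro _ ⟨g, -, rfl⟩; exact g.2) (fxg y) (by omega)
    (by
      rintro _ ⟨_, ⟨c, hc, rfl⟩, rfl⟩ a ha
      exact fix_of_mem_ker y hc ha)
  rw [Subgroup.card_map_of_injective Subtype.val_injective,
    Subgroup.card_map_of_injective Subtype.val_injective, hk] at hd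
  rw [hk]
  have h1 := (Nat.prime_three.pow_dvd_iff_le_factorization (by norm_num)).1 hd
  rw [show (48 : ℕ) = 3 * 16 by norm_num, Nat.factorization_mul (by norm_num) (by norm_num),
    Finsupp.add_apply, Nat.prime_three.factorization_self,
    Nat.factorization_eq_zero_of_not_dvd (by norm_num)] at h1
  calc 3 ^ _ ∣ 3 ^ 1 := Nat.pow_dvd_pow 3 h1
    _ = 3 := pow_one 3

/-- A nontrivial element of a 2-group has a power of order two. -/
theorem exists_involution_pow {H : Type*} [Group H] (hH : IsPGroup 2 H) {w : H} (hw : w ≠ 1) :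
    ∃ n : ℕ, orderOf (w ^ n) = 2 := by
  have := Fact.mk Nat.prime_two
  obtain ⟨k, hk⟩ := IsPGroup.iff_orderOf.1 hH w
  have hk0 : k ≠ 0 := fun h => hw (orderOf_eq_one_iff.1 (by rw [hk, h, pow_zero]))
  refine ⟨orderOf w / 2, orderOf_pow_orderOf_div (by rw [hk]; positivity) ?_⟩
  rw [hk]
  exact dvd_pow_self 2 hk0

/-- A group of permutations acting without fixed points on a finite set has order dividing it. -/
theorem card_dvd_of_free {H α : Type*} [Group H] [MulAction H α]
    (hfree : ∀ (h : H) (a : α), h • a = a → h = 1) : Nat.card H ∣ Nat.card α := by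
  have hs : ∀ a : α, MulAction.stabilizer H a = ⊥ := fun a =>
    (Subgroup.eq_bot_iff_forall _).2 fun h hh => hfree h a (MulAction.mem_stabilizer_iff.1 hh)
  rw [Nat.card_congr (MulAction.selfEquivOrbitsQuotientProd hs), Nat.card_prod]
  exact dvd_mul_left _ _

theorem factorization_two_le {n k : ℕ} (hn : n ≠ 0) (h : n ∣ k) (hk : k ≠ 0) :
    n.factorization 2 ≤ k.factorization 2 :=
  (Nat.factorization_le_iff_dvd hn hk).2 h 2

theorem seven_bound (x : G) (hx : orderOf x = 7) :
    (Nat.card (Subgroup.centralizer ({x} : Set G))).factorization 2 ≤ 1 ∧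
      Nat.card (Subgroup.centralizer ({x} : Set G)) ≤ 42 := by
  have h3 : (fxg x).card = 3 := by simpa using fix_count x (by norm_num) hx
  have hd := (card_dvd_ker_mul x).trans (mul_dvd_mul_right (card_ker_dvd x (Or.inr rfl) hx) _)
  rw [h3] at hd
  refine ⟨(factorization_two_le Nat.card_pos.ne' hd (by decide)).trans ?_,
    Nat.le_of_dvd (by decide) hd⟩
  rw [show 7 * Nat.factorial 3 = 2 * 21 by decide, Nat.factorization_mul (by norm_num)
    (by norm_num), Finsupp.add_apply, Nat.prime_two.factorization_self,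
    Nat.factorization_eq_zero_of_not_dvd (by norm_num)]

theorem five_bound (x : G) (hx : orderOf x = 5) :
    (Nat.card (Subgroup.centralizer ({x} : Set G))).factorization 2 ≤ 2 ∧
      Nat.card (Subgroup.centralizer ({x} : Set G)) ≤ 60 := by
  classical
  have := Fact.mk Nat.prime_two
  have h4 : (fxg x).card = 4 := by simpa using fix_count x (by norm_num) hx
  let P : Sylow 2 (Subgroup.centralizer ({x} : Set G)) := default
  let _ : MulAction (P : Subgroup (Subgroup.centralizer ({x} : Set G))) {a // a ∈ fxg x} :=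
    MulAction.compHom _ ((restr x).comp (P : Subgroup (Subgroup.centralizer ({x} : Set G))).subtype)
  have hfree : ∀ (h : (P : Subgroup (Subgroup.centralizer ({x} : Set G))))
      (a : {a // a ∈ fxg x}), h • a = a → h = 1 := by
    intro h a ha
    by_contra hne
    obtain ⟨n, hn⟩ := exists_involution_pow P.isPGroup' hne
    have hto : orderOf (((h : Subgroup.centralizer ({x} : Set G)) ^ n : G)) = 2 := by
      have e := (Subgroup.orderOf_coe _).trans ((Subgroup.orderOf_coe (h ^ n)).trans hn)
      rwa [SubgroupClass.coe_pow, SubgroupClass.coe_pow] at e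
    have hcomm : Commute x (((h : Subgroup.centralizer ({x} : Set G)) ^ n : G)) :=
      Commute.pow_right (show Commute x (h : Subgroup.centralizer ({x} : Set G)) from
        (Subgroup.mem_centralizer_singleton_iff.1
          (h : Subgroup.centralizer ({x} : Set G)).2).symm) n
    obtain ⟨h1, h2, h3, h4'⟩ := pair_data x _ hcomm (by norm_num) Nat.prime_two hx hto
    have hmem : (a : GolayPt) ∈ fxg x ∩ fxg (((h : Subgroup.centralizer ({x} : Set G)) ^ n : G)) := by
      refine Finset.mem_inter.2 ⟨a.2, mem_fxg.2 ?_⟩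
      rw [SubgroupClass.coe_pow]
      refine Equiv.Perm.pow_apply_eq_self_of_apply_eq_self ?_ _
      exact congrArg Subtype.val ha
    have hpos := Finset.card_pos.2 ⟨_, hmem⟩
    have htf := fix_count _ Nat.prime_two hto
    simp only [List.mem_cons, Prod.mk.injEq, List.not_mem_nil, or_false] at htf
    omega
  have hP := card_dvd_of_free hfree
  rw [Nat.card_eq_finsetCard, h4, P.card_eq_multiplicity] at hP
  have hv : (Nat.card (Subgroup.centralizer ({x} : Set G))).factorization 2 ≤ 2 :=
    (Nat.pow_dvd_pow_iff_le_right (by norm_num)).1 (hP.trans (by norm_num : (4 : ℕ) ∣ 2 ^ 2))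
  refine ⟨hv, ?_⟩
  have hd := (card_dvd_ker_mul x).trans (mul_dvd_mul_right (card_ker_dvd x (Or.inl rfl) hx) _)
  rw [h4, show 5 * Nat.factorial 4 = 120 by decide] at hd
  have hle := Nat.le_of_dvd (by norm_num) hd
  by_contra hgt
  obtain ⟨k, hk⟩ := hd
  have hk1 : k = 1 := by
    rcases k with - | - | k
    · omega
    · rfl
    · nlinarith
  rw [hk1, mul_one] at hk
  rw [← hk, show (120 : ℕ) = 2 ^ 3 * 15 by norm_num, Nat.factorization_mul (by norm_num)
    (by norm_num), Finsupp.add_apply, Nat.prime_two.factorization_pow, Finsupp.single_eq_same,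
    Nat.factorization_eq_zero_of_not_dvd (by norm_num)] at hv
  omega

/-- A subgroup of order at least 16 of the permutations of six points contains a transposition
up to conjugation: some element of order two has four fixed points. -/
theorem exists_fix_four {α : Type*} [Fintype α] [DecidableEq α] (h6 : Fintype.card α = 6)
    (H : Subgroup (Equiv.Perm α)) (hH : 16 ∣ Nat.card H) :
    ∃ s ∈ H, orderOf s = 2 ∧ (Finset.univ.filter fun a => s a = a).card = 4 := by
  have := Fact.mk Nat.prime_two
  have hfac : (Nat.card (Equiv.Perm α)).factorization 2 = 4 := by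
    rw [Nat.card_perm, Nat.card_eq_fintype_card, h6,
      show Nat.factorial 6 = 2 ^ 4 * 45 by decide, Nat.factorization_mul (by norm_num)
      (by norm_num), Finsupp.add_apply, Nat.prime_two.factorization_pow, Finsupp.single_eq_same,
      Nat.factorization_eq_zero_of_not_dvd (by norm_num)]
  obtain ⟨K, hKH, -⟩ : ∃ K : Subgroup (Equiv.Perm α), K ≤ H ∧ Nat.card K = 2 ^ 4 := by
    obtain ⟨K, hK⟩ := Sylow.exists_subgroup_card_pow_prime (G := H) 2 (n := 4) (by simpa using hH)
    exact ⟨K.map H.subtype, Subgroup.map_subtype_le K,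
      by rw [Subgroup.card_map_of_injective Subtype.val_injective, hK]⟩
  obtain ⟨S, hS⟩ := Sylow.exists_subgroup_card_pow_prime (G := H) 2 (n := 4) (by simpa using hH)
  let T : Sylow 2 (Equiv.Perm α) := Sylow.ofCard (S.map H.subtype)
    (by rw [Subgroup.card_map_of_injective Subtype.val_injective, hS, hfac])
  obtain ⟨a, b, hab⟩ := Fintype.exists_pair_of_one_lt_card (by omega : 1 < Fintype.card α)
  have hsw : IsPGroup 2 (Subgroup.zpowers (Equiv.swap a b)) := IsPGroup.of_card (n := 1) (by
    rw [Nat.card_zpowers, pow_one]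
    exact orderOf_eq_prime (by rw [sq, Equiv.swap_mul_self]) (by rw [Ne, Equiv.swap_eq_one_iff]; exact hab))
  obtain ⟨U, hU⟩ := hsw.exists_le_sylow
  obtain ⟨g, hg⟩ := MulAction.exists_smul_eq (Equiv.Perm α) U T
  have hmem : g * Equiv.swap a b * g⁻¹ ∈ H := by
    have h1 : g * Equiv.swap a b * g⁻¹ ∈ (T : Subgroup (Equiv.Perm α)) := by
      rw [← hg, Sylow.smul_def, Sylow.pointwise_smul_def]
      exact Subgroup.smul_mem_pointwise_smul _ _ _ (hU (Subgroup.mem_zpowers _))
    exact Subgroup.map_subtype_le S h1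
  rw [← Equiv.swap_apply_apply] at hmem
  refine ⟨_, hmem, ?_, ?_⟩
  · exact orderOf_eq_prime (by rw [sq, Equiv.swap_mul_self])
      (by rw [Ne, Equiv.swap_eq_one_iff, g.injective.eq_iff]; exact hab)
  · have h1 := Equiv.Perm.card_support_swap (fun h => hab (g.injective h) : g a ≠ g b)
    rw [show (Finset.univ.filter fun c => Equiv.swap (g a) (g b) c = c) =
      (Equiv.swap (g a) (g b)).supportᶜ by ext c; simp, Finset.card_compl, h1, h6]

theorem three_bound (y : G) (hy : orderOf y = 3) :
    (Nat.card (Subgroup.centralizer ({y} : Set G))).factorization 2 ≤ 3 := by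
  classical
  have := Fact.mk Nat.prime_two
  let P : Sylow 2 (Subgroup.centralizer ({y} : Set G)) := default
  have hcard := P.card_eq_multiplicity
  have hf := fix_count y Nat.prime_three hy
  simp only [List.mem_cons, Prod.mk.injEq, List.not_mem_nil, or_false] at hf
  have hcomm : ∀ h : Subgroup.centralizer ({y} : Set G), Commute y (h : G) := fun h =>
    (Subgroup.mem_centralizer_singleton_iff.1 h.2).symm
  by_contra hlt
  rw [not_le] at hlt
  have h16 : 16 ∣ Nat.card (P : Subgroup (Subgroup.centralizer ({y} : Set G))) := by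
    rw [hcard, show (16 : ℕ) = 2 ^ 4 by norm_num]
    exact Nat.pow_dvd_pow 2 hlt
  rcases (by omega : (fxg y).card = 0 ∨ (fxg y).card = 6) with h0 | h6
  · let _ : MulAction (P : Subgroup (Subgroup.centralizer ({y} : Set G))) GolayPt :=
      MulAction.compHom _ (Cfsg.M24.subtype.comp
        ((Subgroup.centralizer ({y} : Set G)).subtype.comp (P : Subgroup (Subgroup.centralizer ({y} : Set G))).subtype))
    have hfree : ∀ (h : (P : Subgroup (Subgroup.centralizer ({y} : Set G)))) (a : GolayPt),
        h • a = a → h = 1 := by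
      intro h a ha
      by_contra hne
      obtain ⟨n, hn⟩ := exists_involution_pow P.isPGroup' hne
      have hto : orderOf (((h : Subgroup.centralizer ({y} : Set G)) ^ n : G)) = 2 := by
        have e := (Subgroup.orderOf_coe _).trans ((Subgroup.orderOf_coe (h ^ n)).trans hn)
        rwa [SubgroupClass.coe_pow, SubgroupClass.coe_pow] at e
      rcases three_two y _ hy hto ((hcomm _).pow_right n) with ⟨h', -⟩ | ⟨-, h'⟩
      · omega
      · have hmem : a ∈ fxg (((h : Subgroup.centralizer ({y} : Set G)) ^ n : G)) := by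
          rw [mem_fxg, SubgroupClass.coe_pow]
          exact Equiv.Perm.pow_apply_eq_self_of_apply_eq_self ha _
        have := Finset.card_pos.2 ⟨a, hmem⟩
        omega
    have h24 := h16.trans (card_dvd_of_free hfree)
    rw [Nat.card_eq_fintype_card, show Fintype.card GolayPt = 24 by simp] at h24
    norm_num at h24
  · have hinj : Function.Injective ((restr y).comp (P : Subgroup (Subgroup.centralizer ({y} : Set G))).subtype) := by
      rw [← MonoidHom.ker_eq_bot_iff, Subgroup.eq_bot_iff_forall]
      intro h hh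
      by_contra hne
      obtain ⟨n, hn⟩ := exists_involution_pow P.isPGroup' hne
      have hker : ((h : Subgroup.centralizer ({y} : Set G))) ^ n ∈ (restr y).ker :=
        pow_mem (show (h : Subgroup.centralizer ({y} : Set G)) ∈ (restr y).ker from hh) n
      have hd := (Subgroup.orderOf_dvd_natCard _ hker).trans (card_ker_three y hy h6)
      have hto : orderOf ((h : Subgroup.centralizer ({y} : Set G)) ^ n) = 2 := by
        have e := (Subgroup.orderOf_coe (h ^ n)).trans hn
        rwa [SubgroupClass.coe_pow] at e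
      rw [hto] at hd
      norm_num at hd
    have hrange : 16 ∣ Nat.card ((restr y).comp (P : Subgroup (Subgroup.centralizer ({y} : Set G))).subtype).range := by
      rwa [← Nat.card_congr (MonoidHom.ofInjective hinj).toEquiv]
    obtain ⟨s, ⟨h, rfl⟩, hs2, hs4⟩ := exists_fix_four (α := {a // a ∈ fxg y})
      (by rw [Fintype.card_coe, h6]) _ hrange
    have hto : orderOf ((h : Subgroup.centralizer ({y} : Set G)) : G) = 2 :=
      (Subgroup.orderOf_coe _).trans ((Subgroup.orderOf_coe h).trans
        ((orderOf_injective _ hinj h).symm.trans hs2))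
    obtain ⟨h1, h2, h3, h4⟩ := pair_data y _ (hcomm _) Nat.prime_three Nat.prime_two hy hto
    rcases three_two y _ hy hto (hcomm _) with ⟨-, h8⟩ | ⟨h', -⟩
    · have hj : 4 ≤ (fxg y ∩ fxg ((h : Subgroup.centralizer ({y} : Set G)) : G)).card := by
        rw [← hs4]
        refine Finset.card_le_card_of_injOn (fun a => (a : GolayPt)) (fun a ha => ?_)
          (fun a _ b _ => Subtype.ext)
        rw [Finset.mem_coe, Finset.mem_filter] at ha
        exact Finset.mem_inter.2 ⟨a.2, mem_fxg.2 (congrArg Subtype.val ha.2)⟩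
      omega
    · omega

/-- The centralizer of an element of order three has 2-part at least 8. -/
theorem three_lower (y : G) (hy : orderOf y = 3) :
    3 ≤ (Nat.card (Subgroup.centralizer ({y} : Set G))).factorization 2 := by
  classical
  have := Fact.mk Nat.prime_two
  have hA := Compute.invA_checks.2.1
  simp only [Compute.commB, Bool.and_eq_true] at hA
  have key : ∀ (K : List Compute.Level) (r : Equiv.Perm GolayPt) (n : ℕ),
      Compute.threeFixB K n = true → Compute.rep24.checkChain K = true →
      Compute.centM24 r = Compute.rep24.chainGroup K → M24Certs.certBool K 24 = true →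
      ∃ y0 : G, orderOf y0 = 3 ∧ (fxg y0).card = n ∧
        3 ≤ (Nat.card (Subgroup.centralizer ({y0} : Set G))).factorization 2 := by
    intro K r n hfix hc heq hcert
    obtain ⟨z, hz, hz3, hn⟩ := M24Certs.exists_three_of_cert hc hcert
    obtain ⟨hzM, hzr⟩ := Compute.mem_centM24.1 (heq ▸ hz)
    refine ⟨⟨z, hzM⟩, by rw [← Subgroup.orderOf_coe]; exact hz3,
      Compute.card_fix_of_threeFix hfix hc heq hzM hzr (one_mem _) (by simp) hz3, ?_⟩
    obtain ⟨H, hH⟩ : ∃ H, H = Compute.rep24.chainGroup K ⊓ Subgroup.centralizer ({z} : Set _) :=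
      ⟨_, rfl⟩
    have hH24 : Nat.card H = 24 := by
      rw [← hn, hH, ← Nat.card_coe_set_eq]
      exact Nat.card_congr (Equiv.subtypeEquivRight fun u => by
        rw [Subgroup.mem_inf, Subgroup.mem_centralizer_singleton_iff]; rfl)
    have hle : H ≤ (Subgroup.centralizer ({(⟨z, hzM⟩ : G)} : Set G)).map Cfsg.M24.subtype := by
      rw [hH, map_centralizer]
      intro u hu
      obtain ⟨h1, h2⟩ := Subgroup.mem_inf.1 hu
      exact Compute.mem_centM24.2 ⟨(Compute.mem_centM24.1 (heq ▸ h1)).1,
        Subgroup.mem_centralizer_singleton_iff.1 h2⟩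
    have hd := Subgroup.card_dvd_of_le hle
    rw [Subgroup.card_map_of_injective Subtype.val_injective, hH24] at hd
    exact (Nat.prime_two.pow_dvd_iff_le_factorization Nat.card_pos.ne').1
      ((show 2 ^ 3 ∣ 24 by norm_num).trans hd)
  have hyo : orderOf (y : Equiv.Perm GolayPt) = 3 := by rw [Subgroup.orderOf_coe, hy]
  have conj_eq : ∀ y0 : G, orderOf y0 = 3 → (fxg y0).card = (fxg y).card →
      Nat.card (Subgroup.centralizer ({y0} : Set G)) =
        Nat.card (Subgroup.centralizer ({y} : Set G)) := by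
    intro y0 h0 hf
    have h0o : orderOf (y0 : Equiv.Perm GolayPt) = 3 := by rw [Subgroup.orderOf_coe, h0]
    have fin : ∀ (k l : Equiv.Perm GolayPt) (hk : k ∈ M24) (hl : l ∈ M24),
        k * (y0 : Equiv.Perm GolayPt) * k⁻¹ = l * y * l⁻¹ →
        Nat.card (Subgroup.centralizer ({y0} : Set G)) =
          Nat.card (Subgroup.centralizer ({y} : Set G)) := by
      intro k l hk hl e
      rw [← BlockThms.card_centralizer_conj y0 ⟨k, hk⟩,
        ← BlockThms.card_centralizer_conj y ⟨l, hl⟩]
      have e' : (⟨k, hk⟩ : G) * y0 * (⟨k, hk⟩ : G)⁻¹ = ⟨l, hl⟩ * y * (⟨l, hl⟩ : G)⁻¹ :=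
        Subtype.ext e
      rw [e']
    rcases Compute.three_cases y0.2 h0o with ⟨a, k, hk, e⟩ | ⟨a, k, hk, e⟩ <;>
      rcases Compute.three_cases y.2 hyo with ⟨b, l, hl, e'⟩ | ⟨b, l, hl, e'⟩
    · exact fin k l hk hl (e.trans e'.symm)
    · exact absurd (hf.trans (Compute.card_fixFilter_zero b)) (by
        rw [show (fxg y0).card = 6 from a]; norm_num)
    · exact absurd (hf.symm.trans (Compute.card_fixFilter_zero a)) (by
        rw [show (fxg y).card = 6 from b]; norm_num)
    · exact fin k l hk hl (e.trans e'.symm)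
  have hf := fix_count y Nat.prime_three hy
  simp only [List.mem_cons, Prod.mk.injEq, List.not_mem_nil, or_false] at hf
  rcases (by omega : (fxg y).card = 0 ∨ (fxg y).card = 6) with h0 | h6
  · obtain ⟨y0, a, b, c⟩ := key _ _ 0 Compute.invB_threeFix Compute.invB_chain_facts.1
      Compute.centInvB_eq M24Certs.invB_cert
    rw [← conj_eq y0 a (by rw [b, h0])]
    exact c
  · obtain ⟨y0, a, b, c⟩ := key _ _ 6 Compute.invA_threeFix hA.1
      Compute.centInvA_eq M24Certs.invA_cert
    rw [← conj_eq y0 a (by rw [b, h6])]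
    exact c

theorem threeA_card_le (y : G) (hy : orderOf y = 3) (h6 : (fxg y).card = 6) :
    Nat.card (Subgroup.centralizer ({y} : Set G)) ≤ 2160 := by
  have hd := (card_dvd_ker_mul y).trans (mul_dvd_mul_right (card_ker_three y hy h6) _)
  rw [h6] at hd
  exact Nat.le_of_dvd (by decide) hd

/-- The regular elements with 2-part of the centralizer equal to four have order divisible by 5. -/
theorem regular_bound (g : G) (hg : ¬ 2 ∣ orderOf g) (hg1 : g ≠ 1) :
    (Nat.card (Subgroup.centralizer ({g} : Set G))).factorization 2 ≤ 3 ∧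
      ((Nat.card (Subgroup.centralizer ({g} : Set G))).factorization 2 = 2 → 5 ∣ orderOf g) := by
  have := Fact.mk Nat.prime_two
  by_cases hev : 2 ∣ Nat.card (Subgroup.centralizer ({g} : Set G))
  swap
  · rw [Nat.factorization_eq_zero_of_not_dvd hev]; simp
  obtain ⟨t, ht⟩ := exists_prime_orderOf_dvd_card' 2 hev
  have hto : orderOf (t : G) = 2 := by rw [Subgroup.orderOf_coe, ht]
  have step : ∀ q : ℕ, q.Prime → q ∣ orderOf g → ∃ y : G, orderOf y = q ∧
      (q = 3 ∨ q = 5 ∨ q = 7) ∧
      (Nat.card (Subgroup.centralizer ({g} : Set G))).factorization 2 ≤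
        (Nat.card (Subgroup.centralizer ({y} : Set G))).factorization 2 := by
    intro q hq hqd
    obtain ⟨y, hyd⟩ : ∃ y, y = g ^ (orderOf g / q) := ⟨_, rfl⟩
    have hy : orderOf y = q := by
      rw [hyd]; exact orderOf_pow_orderOf_div (orderOf_pos g).ne' hqd
    have hty : Commute y (t : G) := by
      rw [hyd]
      exact Commute.pow_left
        (show Commute (t : G) g from Subgroup.mem_centralizer_singleton_iff.1 t.2).symm _
    refine ⟨y, hy, ?_, ?_⟩
    · have hne : q ≠ 2 := fun h => hg (h ▸ hqd)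
      rcases prime_cases hq (hy ▸ card_G ▸ orderOf_dvd_natCard y) with
        rfl | rfl | rfl | rfl | rfl | rfl
      · exact absurd rfl hne
      · exact Or.inl rfl
      · exact Or.inr (Or.inl rfl)
      · exact Or.inr (Or.inr rfl)
      · have := big_prime y _ hty (Or.inl rfl) Nat.prime_two hy hto; omega
      · have := big_prime y _ hty (Or.inr rfl) Nat.prime_two hy hto; omega
    · refine factorization_two_le Nat.card_pos.ne' (Subgroup.card_dvd_of_le fun c hc => ?_)
        Nat.card_pos.ne'
      rw [hyd, Subgroup.mem_centralizer_singleton_iff]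
      exact ((show Commute c g from Subgroup.mem_centralizer_singleton_iff.1 hc).pow_right _).eq
  constructor
  · obtain ⟨q, hq, hqd⟩ := Nat.exists_prime_and_dvd (fun h => hg1 (orderOf_eq_one_iff.1 h))
    obtain ⟨y, hy, hq3, hle⟩ := step q hq hqd
    rcases hq3 with rfl | rfl | rfl
    · exact hle.trans (three_bound y hy)
    · have := (five_bound y hy).1; omega
    · have := (seven_bound y hy).1; omega
  intro h2
  by_contra h5
  have hall : ∀ q : ℕ, q.Prime → q ∣ orderOf g → q = 3 := by
    intro q hq hqd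
    obtain ⟨y, hy, hq3, hle⟩ := step q hq hqd
    rcases hq3 with rfl | rfl | rfl
    · rfl
    · exact absurd hqd h5
    · have := (seven_bound y hy).1; omega
  have hord := Nat.eq_prime_pow_of_unique_prime_dvd (orderOf_pos g).ne'
    fun {q} hq hqd => hall q hq hqd
  have h3 : g ^ 3 = 1 := Subtype.ext (M24Certs.pow_three_eq_one g.2
    (k := (orderOf g).primeFactorsList.length) (by rw [Subgroup.orderOf_coe]; exact hord))
  have := Fact.mk Nat.prime_three
  have := three_lower g (orderOf_eq_prime h3 hg1)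
  omega

end Cfsg.Agent.BlockApp.M24Cent
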